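import Cfsg.Agent.E6Sub.Setup
import Cfsg.Agent.ChevTori.Group
import Cfsg.Agent.CG26.ChevInv.Root

/-!
The group of type E6 over a field of characteristic two with the twisting map squaring the parameters, and the
element of order five in a pair of orthogonal rank one groups exchanged by the map.
-/

set_option autoImplicit false
set_option maxRecDepth 4000

namespace Cfsg.Agent.E6Five

open Cfsg.Lie Cfsg.Agent.ChevCore Cfsg.Agent.ChevGroup Cfsg.Agent.ChevIsogeny Cfsg.Agent.Twisted
open Cfsg.Agent.Twisted.TypeE6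
open Cfsg.Agent.E6Sub (Ix Gp R0 X)
open scoped MatrixGroups

variable {F : Type*} [Field F] [Fintype F] [CharP F 2]

theorem frame2 : Frame (T := MT) (relsOfCommGood ChevCore.commGoodE6 F) PP 2 fd := by
  have hlam : ∀ r, r < chevE6.nroots → ChevIsogeny.IsoData.lf PP r = 1 := by
    have : ((List.range chevE6.nroots).all fun r => decide (ChevIsogeny.IsoData.lf PP r = 1)) = true := by
      decide +kernel
    simp only [List.all_eq_true, decide_eq_true_eq, List.mem_range] at this
    exact this
  refine ⟨⟨commFormula ChevCore.commGoodE6 F, ChevIsogeny.E6.base, ChevIsogeny.E6.pairing,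
    ChevIsogeny.E6.simple, ChevIsogeny.E6.collect, by simp [ChevIsogeny.E6.iso],
    fun r hr a b => by rw [hlam r hr, one_mul]; exact CharTwo.add_sq a b,
    fun r hr z => by
      rw [hlam r hr, one_mul, ← frobenius_def (p := 2), map_intCast],
    ⟨_, ChevIsogeny.E6.sign, eta_link ChevCore.commGoodE6 F ChevCore.chkLinkE6 etaTab⟩⟩, ok⟩

/-- the twisting map -/
noncomputable abbrev sg : Gp F →* Gp F := (frame2 (F := F)).σ

theorem sg_X (r : Ix) (t : F) : sg (X r t) = X (fd.O.rho r) (t ^ 2) := by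
  have h := (frame2 (F := F)).σ_x r t
  rw [show IsoHyp.lam PP 2 r.val = ChevIsogeny.IsoData.lf PP r.val * 2 from rfl,
    (E6Sub.rn_facts r).2.1, one_mul] at h
  refine h.trans ?_
  rcases (E6Sub.rn_facts r).2.2.2.2.1 with e | e <;> simp [e, CharTwo.neg_eq]

/-- squaring the entries -/
noncomputable abbrev fsl : SL(2, F) →* SL(2, F) := Matrix.SpecialLinearGroup.map (frobenius F 2)

theorem fsl_val (A : SL(2, F)) :
    ((fsl A : SL(2, F)) : Matrix (Fin 2) (Fin 2) F) = (A : Matrix (Fin 2) (Fin 2) F).map (frobenius F 2) := rfl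

theorem fsl_U (t : F) : fsl (slU t) = slU (t ^ 2) := by
  refine Subtype.ext ?_
  rw [fsl_val]
  ext i j
  fin_cases i <;> fin_cases j <;> simp [slU, frobenius_def]

theorem fsl_L (t : F) : fsl (slL t) = slL (t ^ 2) := by
  refine Subtype.ext ?_
  rw [fsl_val]
  ext i j
  fin_cases i <;> fin_cases j <;> simp [slL, frobenius_def]

theorem ext_sl {G : Type*} [Monoid G] {f g : SL(2, F) →* G} (h1 : ∀ t, f (slU t) = g (slU t))
    (h2 : ∀ t, f (slL t) = g (slL t)) : f = g :=
  MonoidHom.eq_of_eqOn_dense (s := Set.range (slU (F := F)) ∪ Set.range slL)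
    (eq_top_iff.2 fun a _ => sl_generated a) (by
      rintro _ (⟨t, rfl⟩ | ⟨t, rfl⟩)
      exacts [h1 t, h2 t])

/-- the rank one group at a root -/
noncomputable abbrev phiR (r : Ix) : SL(2, F) →* Gp F := CG26.ChevInv.phi MT uGoodE6 r

theorem phiR_U (r : Ix) (t : F) : phiR r (slU t) = X r t := CG26.ChevInv.phi_U MT uGoodE6 r t

theorem phiR_L (r : Ix) (t : F) : phiR r (slL t) = X ((MT.S).neg r) t :=
  CG26.ChevInv.phi_L MT uGoodE6 r t

theorem rho_neg : ∀ r : Ix, fd.O.rho ((MT.S).neg r) = (MT.S).neg (fd.O.rho r) := by decide +kernel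

theorem sg_phiR (r : Ix) (A : SL(2, F)) : sg (phiR r A) = phiR (fd.O.rho r) (fsl A) := by
  refine DFunLike.congr_fun (ext_sl (f := sg.comp (phiR r)) (g := (phiR (fd.O.rho r)).comp fsl)
    (fun t => ?_) fun t => ?_) A
  · simp only [MonoidHom.comp_apply, fsl_U, phiR_U, sg_X]
  · simp only [MonoidHom.comp_apply, fsl_L, phiR_L, sg_X, rho_neg]

/-- the two roots exchanged by the symmetry -/
def pr56 : List Ix := [56, 15, 36, 35]

theorem phiR_commute {g : Gp F} {r : Ix} (h1 : ∀ t, Commute g (X r t))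
    (h2 : ∀ t, Commute g (X ((MT.S).neg r) t)) (A : SL(2, F)) : Commute g (phiR r A) := by
  have h : Subgroup.closure (Set.range (slU (F := F)) ∪ Set.range slL) ≤
      (Subgroup.centralizer {g}).comap (phiR r) := by
    refine (Subgroup.closure_le _).2 ?_
    rintro _ (⟨t, rfl⟩ | ⟨t, rfl⟩)
    · exact Subgroup.mem_centralizer_singleton_iff.2 (by rw [phiR_U]; exact (h1 t).symm.eq)
    · exact Subgroup.mem_centralizer_singleton_iff.2 (by rw [phiR_L]; exact (h2 t).symm.eq)
  exact (Subgroup.mem_centralizer_singleton_iff.1 (h (sl_generated A))).symm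

theorem comm_orth : ∀ a ∈ ([56, 15] : List Ix), ∀ b ∈ ([36, 35] : List Ix),
    PP.commuteB chevE6 a.val b.val = true := by decide +kernel

theorem phiR_commute_orth (A B : SL(2, F)) : Commute (phiR (56 : Ix) A) (phiR (36 : Ix) B) := by
  refine phiR_commute (fun t => ?_) (fun t => ?_) B
  · refine (phiR_commute (fun s => ?_) (fun s => ?_) A).symm
    · exact (frame2 (F := F)).commute_x (a := 56) (b := 36) (comm_orth _ (by simp) _ (by simp)) s t |>.symm
    · exact (frame2 (F := F)).commute_x (a := (MT.S).neg 56) (b := 36)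
        (comm_orth _ (by decide) _ (by simp)) s t |>.symm
  · refine (phiR_commute (fun s => ?_) (fun s => ?_) A).symm
    · exact (frame2 (F := F)).commute_x (a := 56) (b := (MT.S).neg 36)
        (comm_orth _ (by simp) _ (by decide)) s t |>.symm
    · exact (frame2 (F := F)).commute_x (a := (MT.S).neg 56) (b := (MT.S).neg 36)
        (comm_orth _ (by decide) _ (by decide)) s t |>.symm

/-- the diagonal rank one group -/
noncomputable def dbl : SL(2, F) →* Gp F where
  toFun A := phiR (56 : Ix) A * phiR (36 : Ix) (fsl A)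
  map_one' := by simp
  map_mul' A B := by
    simp only [map_mul]
    exact Commute.mul_mul_mul_comm (phiR_commute_orth B (fsl A)) _ _

theorem dbl_apply (A : SL(2, F)) : dbl A = phiR (56 : Ix) A * phiR (36 : Ix) (fsl A) := rfl

theorem sg_dbl (A : SL(2, F)) : sg (dbl A) = phiR (56 : Ix) (fsl (fsl A)) * phiR (36 : Ix) (fsl A) := by
  rw [dbl_apply, map_mul, sg_phiR, sg_phiR, show fd.O.rho (56 : Ix) = 36 by decide,
    show fd.O.rho (36 : Ix) = 56 by decide, (phiR_commute_orth _ _).eq]

theorem sg_dbl_fix (h4 : ∀ a : F, a ^ 4 = a) (A : SL(2, F)) : sg (dbl A) = dbl A := by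
  rw [sg_dbl, dbl_apply]
  congr 2
  refine Subtype.ext ?_
  ext i j
  simp only [fsl, Matrix.SpecialLinearGroup.map_apply_coe, RingHom.mapMatrix_apply, Matrix.map_apply,
    frobenius_def, ← pow_mul]
  exact h4 _

/-- the element of order five of `SL₂` -/
noncomputable def a5 (w : F) : SL(2, F) := slU w * pn slU slL 1

theorem a5_val (w : F) : ((a5 w : SL(2, F)) : Matrix (Fin 2) (Fin 2) F) = !![w, 1; 1, 0] := by
  rw [a5, Matrix.SpecialLinearGroup.coe_mul, coe_slU, pn_sl one_ne_zero]
  ext i j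
  fin_cases i <;> fin_cases j <;> simp [Matrix.mul_apply, Fin.sum_univ_two, CharTwo.neg_eq]

theorem a5_pow {w : F} (hw : w ^ 2 + w + 1 = 0) : a5 w ^ 5 = 1 := by
  refine Subtype.ext ?_
  have h2 : (2 : F) = 0 := CharTwo.two_eq_zero
  rw [Matrix.SpecialLinearGroup.coe_pow, a5_val, Matrix.SpecialLinearGroup.coe_one]
  simp only [pow_succ, pow_zero, one_mul]
  ext i j
  fin_cases i <;> fin_cases j <;> simp [Matrix.mul_apply, Fin.sum_univ_two] <;> grind

/-- the element of order five -/
noncomputable def xel (w : F) : Gp F := dbl (a5 w)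

theorem xel_eq (w : F) : ∃ u ∈ (R0 F).U, xel w = u * (R0 F).nw [0, 5] := by
  refine ⟨X (56 : Ix) w * X (36 : Ix) (w ^ 2),
    mul_mem ((R0 F).x_mem_U (by decide) _) ((R0 F).x_mem_U (by decide) _), ?_⟩
  have h1 : fsl (pn slU slL (1 : F)) = pn slU slL 1 := by
    simp [pn, fsl_U, fsl_L, CharTwo.neg_eq]
  rw [xel, a5, map_mul, show dbl (slU w) = X (56 : Ix) w * X (36 : Ix) (w ^ 2) by
    rw [dbl_apply, phiR_U, fsl_U, phiR_U], dbl_apply, h1]
  congr 1
  rw [CG26.ChevInv.phi_pn, CG26.ChevInv.phi_pn]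
  simp only [RootRel.nw, List.map_cons, List.map_nil, List.prod_cons, List.prod_nil, mul_one]
  congr 1

theorem xel_entry (w : F) :
    (MT.shapeR (relsOfCommGood ChevCore.commGoodE6 F)).mat (xel w) (MT.coord 15) (MT.coord 56) ≠ 0 := by
  set M := MT.shapeR (relsOfCommGood ChevCore.commGoodE6 F)
  obtain ⟨u, hu, e⟩ := xel_eq w
  rw [e, M.mat_mul, Matrix.mul_apply, Finset.sum_eq_single (MT.coord 15)]
  · rw [M.uni_of_U hu _ _ le_rfl, if_pos rfl, one_mul]
    have := M.mono_word_ne [0, 5] 56
    rwa [show (MT.S).actw [0, 5] 56 = 15 by decide +kernel] at this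
  · intro c _ hc
    exact mul_eq_zero_of_right _ (M.mono_word [0, 5] 56 c
      (by rw [show (MT.S).actw [0, 5] 56 = 15 by decide +kernel]; exact hc))
  · simp

theorem xel_pow {w : F} (hw : w ^ 2 + w + 1 = 0) : xel w ^ 5 = 1 := by
  rw [xel, ← map_pow, a5_pow hw, map_one]

theorem xel_ne_one (w : F) : xel w ≠ 1 := fun h => xel_entry w (by
  rw [h, Shape.mat_one]
  exact Matrix.one_apply_ne ((MT.shapeR (relsOfCommGood ChevCore.commGoodE6 F)).e_inj.ne (by decide)))

/-- root numbers generating the commuting group of type A3 -/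
def dRoots : List Ix := [46, 39, 69, 25, 32, 2]

/-- the commuting group of type A3 over the prime field -/
noncomputable def DG (F : Type*) [Field F] : Subgroup (Gp F) :=
  Subgroup.closure ((fun r : Ix => X r (1 : F)) '' {r | r ∈ dRoots})

theorem dRoots_comm : ∀ r ∈ dRoots, ∀ a ∈ ([56, 15, 36, 35] : List Ix),
    PP.commuteB chevE6 r.val a.val = true := by decide +kernel

theorem DG_commute {g : Gp F} (hg : g ∈ DG F) (A : SL(2, F)) : Commute g (dbl A) := by
  have hgen : ∀ r ∈ dRoots, ∀ s : Ix, s ∈ ([56, 36] : List Ix) → ∀ B, Commute (X r (1 : F)) (phiR s B) := by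
    intro r hr s hs B
    refine phiR_commute (fun t => ?_) (fun t => ?_) B
    · exact (frame2 (F := F)).commute_x (dRoots_comm r hr s (by revert hs; revert s; decide)) 1 t
    · exact (frame2 (F := F)).commute_x (dRoots_comm r hr _ (by revert hs; revert s; decide)) 1 t
  induction hg using Subgroup.closure_induction with
  | mem y hy =>
    obtain ⟨r, hr, rfl⟩ := hy
    exact (hgen r hr _ (by simp) _).mul_right (hgen r hr _ (by simp) _)
  | one => exact Commute.one_left _
  | mul a b _ _ ha hb => exact ha.mul_left hb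
  | inv a _ ha => exact ha.inv_left

theorem DG_fixed {g : Gp F} (hg : g ∈ DG F) : sg g = g := by
  have h : DG F ≤ (sg (F := F)).eqLocus (MonoidHom.id _) := by
    refine (Subgroup.closure_le _).2 ?_
    rintro _ ⟨r, hr, rfl⟩
    show sg _ = _
    rw [sg_X, one_pow, show fd.O.rho r = r by revert hr; revert r; decide +kernel]
    rfl
  exact h hg

end Cfsg.Agent.E6Five
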