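import Cfsg.Agent.E6Five.Base
import Cfsg.Agent.ChevFixed.Field
import Cfsg.Agent.Lib.LinearGroup.Generation
import Cfsg.Agent.Lib.LinearGroup.PSL42

/-!
Blocks of the root elements with parameter one: the group of type A3 maps onto the special linear group of
degree four over two elements, and traces separate three elements of order five.
-/

set_option autoImplicit false
set_option maxRecDepth 8000

namespace Cfsg.Agent.E6Five

open Cfsg.Lie Cfsg.Agent.ChevCore Cfsg.Agent.ChevGroup Cfsg.Agent.Twisted Cfsg.Agent.Twisted.TypeE6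
open Cfsg.Agent.E6Sub (Ix Gp R0 X)

variable {F : Type*} [Field F] [Fintype F] [CharP F 2]

/-- the matrix of an element -/
noncomputable abbrev mt (g : Gp F) : Matrix chevE6.Idx chevE6.Idx F :=
  (MT.shapeR (relsOfCommGood ChevCore.commGoodE6 F)).mat g

variable {n : ℕ}

/-- the block of an element -/
noncomputable def bm (B : Fin n → Ix) (g : Gp F) : Matrix (Fin n) (Fin n) F :=
  Matrix.of fun i j => mt g (MT.coord (B i)) (MT.coord (B j))

/-- the span of the block is preserved -/
def PB (B : Fin n → Ix) (g : Gp F) : Prop :=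
  ∀ j a, (∀ i, a ≠ MT.coord (B i)) → mt g a (MT.coord (B j)) = 0

/-- a root element with parameter one preserves the block, over the prime field -/
def okB (B : Fin n → Ix) (L : List Ix) : Prop :=
  ∀ r ∈ L, ∀ j a, (∀ i, a ≠ MT.coord (B i)) → chevE6.x (ZMod 2) r.val 1 a (MT.coord (B j)) = 0

/-- the block of a root element over the prime field -/
def zm (B : Fin n → Ix) (r : Ix) : Matrix (Fin n) (Fin n) (ZMod 2) :=
  Matrix.of fun i j => chevE6.x (ZMod 2) r.val 1 (MT.coord (B i)) (MT.coord (B j))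

/-- the block of a word over the prime field -/
def zw (B : Fin n → Ix) (l : List Ix) : Matrix (Fin n) (Fin n) (ZMod 2) :=
  (l.map (zm B)).prod

/-- the product of root elements with parameter one -/
noncomputable abbrev wX (l : List Ix) : Gp F := (l.map fun r => X r (1 : F)).prod

/-- the prime field -/
noncomputable abbrev fp : ZMod 2 →+* F := ZMod.castHom (dvd_refl 2) F

theorem mt_X (r : Ix) (a b : chevE6.Idx) :
    mt (X r (1 : F)) a b = fp (chevE6.x (ZMod 2) r.val 1 a b) := by
  rw [show (1 : F) = fp (1 : ZMod 2) from (map_one _).symm]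
  exact (congrFun (congrFun (ChevFixed.x_map (D := chevE6) (fp (F := F)) r.val 1) a) b).symm

variable {B : Fin n → Ix}

omit [Fintype F] [CharP F 2] in
theorem PB.one : PB B (1 : Gp F) := fun j a ha => by
  rw [mt, Shape.mat_one]; exact Matrix.one_apply_ne (ha j)

omit [Fintype F] [CharP F 2] in
theorem PB.mul {g h : Gp F} (hg : PB B g) (hh : PB B h) : PB B (g * h) := by
  intro j a ha
  rw [mt, Shape.mat_mul, Matrix.mul_apply]
  refine Finset.sum_eq_zero fun c _ => ?_
  by_cases hc : ∃ i, c = MT.coord (B i)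
  · obtain ⟨i, rfl⟩ := hc
    exact mul_eq_zero_of_left (hg i a ha) _
  · exact mul_eq_zero_of_right _ (hh j c fun i e => hc ⟨i, e⟩)

omit [Fintype F] [CharP F 2] in
theorem bm_mul (hB : Function.Injective B) {g h : Gp F} (hh : PB B h) :
    bm B (g * h) = bm B g * bm B h := by
  ext i j
  rw [Matrix.mul_apply, bm, Matrix.of_apply, mt, Shape.mat_mul, Matrix.mul_apply]
  symm
  refine Finset.sum_of_injOn (fun k => MT.coord (B k))
    (((MT.shapeR (relsOfCommGood ChevCore.commGoodE6 F)).e_inj.comp hB).injOn) (by simp) ?_ fun k _ => rfl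
  intro c _ hc
  exact mul_eq_zero_of_right _ (hh j c fun k e => hc ⟨k, Finset.mem_coe.2 (Finset.mem_univ k), e.symm⟩)

omit [Fintype F] [CharP F 2] in
theorem bm_one (hB : Function.Injective B) : bm B (1 : Gp F) = 1 := by
  ext i j
  rw [bm, Matrix.of_apply, mt, Shape.mat_one, Matrix.one_apply, Matrix.one_apply]
  exact if_congr ((MT.shapeR (relsOfCommGood ChevCore.commGoodE6 F)).e_inj.comp hB).eq_iff rfl rfl

theorem PB_closure {L : List Ix} (h : okB B L) {g : Gp F}
    (hg : g ∈ Subgroup.closure ((fun r : Ix => X r (1 : F)) '' {r | r ∈ L})) : PB B g := by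
  have hX : ∀ r ∈ L, PB B (X r (1 : F)) := fun r hr j a ha => by
    rw [mt_X, h r hr j a ha, map_zero]
  induction hg using Subgroup.closure_induction'' with
  | mem y hy => obtain ⟨r, hr, rfl⟩ := hy; exact hX r hr
  | inv_mem y hy =>
    obtain ⟨r, hr, rfl⟩ := hy
    rw [← (R0 F).x_neg, CharTwo.neg_eq]
    exact hX r hr
  | one => exact PB.one
  | mul a b _ _ ha hb => exact ha.mul hb

theorem bm_wX (hB : Function.Injective B) {L : List Ix} (h : okB B L) :
    ∀ l : List Ix, (∀ r ∈ l, r ∈ L) → bm B (wX (F := F) l) = (zw B l).map fp := by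
  intro l
  induction l with
  | nil => intro _; rw [wX, List.map_nil, List.prod_nil, bm_one hB, zw, List.map_nil, List.prod_nil,
      Matrix.map_one _ (map_zero _) (map_one _)]
  | cons r l ih =>
    intro hl
    have hl' : ∀ s ∈ l, s ∈ L := fun s hs => hl s (List.mem_cons_of_mem _ hs)
    rw [wX, List.map_cons, List.prod_cons, bm_mul hB (PB_closure h (Subgroup.list_prod_mem _ fun y hy => by
      obtain ⟨s, hs, rfl⟩ := List.mem_map.1 hy
      exact Subgroup.subset_closure ⟨s, hl' s hs, rfl⟩)), ih hl']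
    simp only [zw, List.map_cons, List.prod_cons, Matrix.map_mul]
    congr 1
    ext i j
    exact mt_X r _ _

/-- the block of the natural representation of the group of type A3 -/
def B4 : Fin 4 → Ix := ![3, 37, 40, 48]

/-- the column separating the element of order five -/
def B1 : Fin 1 → Ix := ![56]

/-- two blocks of the group generated by the long root elements -/
def B8 : Fin 2 → Fin 8 → Ix := ![![3, 21, 28, 29, 37, 40, 48, 66], ![4, 10, 13, 14, 38, 41, 49, 55]]

/-- the roots fixed by the symmetry -/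
def longs : List Ix := (List.finRange MT.tab.n).filter fun r => decide (fd.O.rho r = r)

theorem B4_inj : Function.Injective B4 := by decide +kernel

theorem B8_inj : ∀ b, Function.Injective (B8 b) := by decide +kernel

theorem okB4 : okB B4 dRoots := by unfold okB; decide +kernel

theorem okB1 : okB B1 dRoots := by unfold okB; decide +kernel

theorem okB8 : ∀ b, okB (B8 b) longs := by unfold okB; decide +kernel

/-- an element of order five in the group of type A3 -/
def y1w : List Ix := [46, 39, 69, 25, 32, 2]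

/-- its conjugate -/
def y2w : List Ix := [46, 44, 65, 25, 27, 6]

/-- its conjugate -/
def y3w : List Ix := [46, 60, 53, 25, 11, 18]

/-- an element squaring it -/
def dw : List Ix := [46, 69, 32, 39, 25]

theorem y1_facts : zw B4 y1w ^ 5 = 1 ∧ zw B4 dw * zw B4 y1w = zw B4 y1w ^ 2 * zw B4 dw ∧
    zw B4 y1w ≠ 1 := by decide +kernel

/-- the traces on the two blocks of a power -/
def trs (l : List Ix) (k : ℕ) : ZMod 2 × ZMod 2 := ((zw (B8 0) l ^ k).trace, (zw (B8 1) l ^ k).trace)

theorem trs_facts : ∀ k : Fin 5, k.val ≠ 0 →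
    trs y1w k.val = (0, 0) ∧ trs y2w k.val = (0, 1) ∧ trs y3w k.val = (1, 0) := by decide +kernel

theorem words_long : ∀ r ∈ y1w ++ y2w ++ y3w, r ∈ longs := by decide +kernel

theorem words_D : ∀ r ∈ y1w ++ dw, r ∈ dRoots := by decide +kernel

/-- the entries of the six generators -/
def pos6 : List (Ix × Fin 4 × Fin 4) :=
  [(46, 3, 2), (39, 2, 1), (69, 1, 0), (25, 2, 3), (32, 1, 2), (2, 0, 1)]

theorem pos6_ok : ∀ p ∈ pos6, p.1 ∈ dRoots ∧ p.2.1 ≠ p.2.2 ∧
    zm B4 p.1 = 1 + Matrix.single p.2.1 p.2.2 (1 : ZMod 2) := by decide +kernel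

theorem wX_mem {L l : List Ix} (h : ∀ r ∈ l, r ∈ L) :
    wX (F := F) l ∈ Subgroup.closure ((fun r : Ix => X r (1 : F)) '' {r | r ∈ L}) :=
  Subgroup.list_prod_mem _ fun _ hy => by
    obtain ⟨r, hr, rfl⟩ := List.mem_map.1 hy
    exact Subgroup.subset_closure ⟨r, h r hr, rfl⟩

/-- the natural representation -/
noncomputable def pi4 (F : Type*) [Field F] [Fintype F] [CharP F 2] :
    ↥(DG F) →* Matrix (Fin 4) (Fin 4) F where
  toFun g := bm B4 g.1
  map_one' := bm_one B4_inj
  map_mul' _ b := bm_mul B4_inj (PB_closure okB4 b.2)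

theorem pi4_wX {l : List Ix} (h : ∀ r ∈ l, r ∈ dRoots) :
    pi4 F ⟨wX l, wX_mem h⟩ = (zw B4 l).map fp := bm_wX B4_inj okB4 l h

theorem xel_not_mem (w : F) : xel w ∉ DG F := fun h =>
  xel_entry w (PB_closure okB1 h 0 (MT.coord 15) fun i => by fin_cases i; decide)

open Matrix.SpecialLinearGroup in
theorem pi4_surj (s : Matrix.SpecialLinearGroup (Fin 4) (ZMod 2)) :
    ∃ g : ↥(DG F), pi4 F g = (s : Matrix (Fin 4) (Fin 4) (ZMod 2)).map fp := by
  let H : Subgroup (Matrix.SpecialLinearGroup (Fin 4) (ZMod 2)) :=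
    { carrier := {s | ∃ g : ↥(DG F), pi4 F g = (s : Matrix (Fin 4) (Fin 4) (ZMod 2)).map fp}
      one_mem' := ⟨1, by simp [map_one]⟩
      mul_mem' := by
        rintro a b ⟨g, hg⟩ ⟨h, hh⟩
        exact ⟨g * h, by rw [map_mul, hg, hh, Matrix.SpecialLinearGroup.coe_mul, Matrix.map_mul]⟩
      inv_mem' := by
        rintro a ⟨g, hg⟩
        refine ⟨g⁻¹, left_inv_eq_right_inv (a := pi4 F g) (by rw [← map_mul, inv_mul_cancel, map_one]) ?_⟩
        rw [hg, ← Matrix.map_mul, ← Matrix.SpecialLinearGroup.coe_mul, mul_inv_cancel,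
          Matrix.SpecialLinearGroup.coe_one, Matrix.map_one _ (map_zero _) (map_one _)] }
  have hgen : ∀ i j, ∀ hij : i ≠ j, (∃ r, (r, i, j) ∈ pos6) → transvection hij (1 : ZMod 2) ∈ H := by
    rintro i j hij ⟨r, hr⟩
    obtain ⟨hD, -, e⟩ := pos6_ok _ hr
    refine ⟨⟨wX [r], wX_mem (by simpa using hD)⟩, ?_⟩
    rw [pi4_wX (by simpa using hD), zw, List.map_cons, List.map_nil, List.prod_cons, List.prod_nil,
      mul_one, e]
    rfl
  have hcom : ∀ {i j k : Fin 4} (hik : i ≠ k) (hkj : k ≠ j) (hij : i ≠ j),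
      transvection hik (1 : ZMod 2) ∈ H → transvection hkj (1 : ZMod 2) ∈ H →
      transvection hij (1 : ZMod 2) ∈ H := by
    intro i j k hik hkj hij h1 h2
    have := LinearGroup.commutator_transvection (F := ZMod 2) hik hkj hij 1 1
    rw [mul_one] at this
    rw [← this, commutatorElement_def]
    exact mul_mem (mul_mem (mul_mem h1 h2) (inv_mem h1)) (inv_mem h2)
  have g01 := hgen 0 1 (by decide) ⟨2, by decide +kernel⟩
  have g12 := hgen 1 2 (by decide) ⟨32, by decide +kernel⟩
  have g23 := hgen 2 3 (by decide) ⟨25, by decide +kernel⟩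
  have g10 := hgen 1 0 (by decide) ⟨69, by decide +kernel⟩
  have g21 := hgen 2 1 (by decide) ⟨39, by decide +kernel⟩
  have g32 := hgen 3 2 (by decide) ⟨46, by decide +kernel⟩
  have g02 := hcom _ _ (show (0 : Fin 4) ≠ 2 by decide) g01 g12
  have g13 := hcom _ _ (show (1 : Fin 4) ≠ 3 by decide) g12 g23
  have g03 := hcom _ _ (show (0 : Fin 4) ≠ 3 by decide) g02 g23
  have g20 := hcom _ _ (show (2 : Fin 4) ≠ 0 by decide) g21 g10
  have g31 := hcom _ _ (show (3 : Fin 4) ≠ 1 by decide) g32 g21
  have g30 := hcom _ _ (show (3 : Fin 4) ≠ 0 by decide) g31 g10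
  have htop : H = ⊤ := LinearGroup.eq_top_of_transvection_mem fun i j hij c => by
    rcases (show c = 0 ∨ c = 1 by revert c; decide) with rfl | rfl
    · rw [transvection_coeff_zero]; exact one_mem _
    · fin_cases i <;> fin_cases j <;> first | exact absurd rfl hij | assumption
  exact (htop ▸ Subgroup.mem_top s : s ∈ H)

theorem card_A8 : Nat.card (Matrix.SpecialLinearGroup (Fin 4) (ZMod 2)) = 20160 := by
  haveI : Fact (Nat.Prime 2) := ⟨Nat.prime_two⟩
  obtain ⟨e⟩ := LinearGroup.PSL42.equiv
  rw [Nat.card_congr e.toEquiv, nat_card_alternatingGroup]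
  simp [Nat.factorial]

end Cfsg.Agent.E6Five
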