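import Cfsg.Agent.E6Five.Cells

/-!
Counting the elements commuting with the diagonal element and fixed by the twisting map.
-/

set_option autoImplicit false
set_option maxRecDepth 4000

namespace Cfsg.Agent.E6Five

open Cfsg.Lie Cfsg.Agent.ChevCore Cfsg.Agent.ChevGroup Cfsg.Agent.Twisted
open Cfsg.Agent.Twisted.TypeE6
open Cfsg.Agent.E6Sub (Ix Gp R0 X)
open Cfsg.Agent.ChevTori (chi)
open Cfsg.Agent.CG26.ChevInv (Mon)

variable {L : Type*} [Field L] [Fintype L] [CharP L 2]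

theorem rho_rhoI : ∀ r : Ix, fd.O.rho ((MT.S).refl 0 r) = gamI r := fun _ => rfl

theorem actw_of_tup {v w : List (Fin MT.tab.l)} (h : tup v = tup w) (r : Ix) :
    (MT.S).actw v r = (MT.S).actw w r := by rw [← img_actw, h, img_actw]

theorem pos_posList : ∀ r : Ix, (MT.S).pos r → r ∈ MT.posList := by decide +kernel

theorem six_nodup : six.Nodup := by decide +kernel

attribute [local irreducible] tups

namespace Zeta

variable (Z : Zeta L)

/-- fixed elements of the unipotent group -/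
def UTf : Set (Gp L) := {u | u ∈ UT L ∧ Z.tau u = u}

theorem idem {a : L} (h : a ^ 2 = a) : a = 0 ∨ a = 1 :=
  (eq_or_ne a 0).imp id fun h0 => mul_left_cancel₀ h0 (by rw [← pow_two, h, mul_one])

theorem card_UTf : Nat.card Z.UTf ≤ 64 := by
  classical
  let dd : (Fin 6 → Bool) → Ix → L := fun b r =>
    if ∃ i : Fin 6, six.getD i.val 0 = r ∧ b i = true then 1 else 0
  have hd : ∀ b, ∀ r ∈ MT.posList, r ∉ six → dd b r = 0 := by
    intro b r _ h6
    refine if_neg ?_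
    rintro ⟨i, rfl, -⟩
    exact h6 (by rw [List.getD_eq_getElem _ _ i.isLt]; exact List.getElem_mem _)
  let f : (Fin 6 → Bool) → Z.UTf := fun b => ⟨PX (dd b), PX_mem_UT (hd b), by
    rw [Z.tau_PX (hd b)]
    congr 1
    funext r
    simp only [dd]
    split <;> simp⟩
  refine (Nat.card_le_card_of_surjective f ?_).trans (by simp)
  rintro ⟨u, hu, hfix⟩
  obtain ⟨d, hd0, rfl⟩ := Z.exists_PX6 (UT_le_U hu) (Z.UT_commute hu)
  rw [Z.tau_PX hd0] at hfix
  have hsq := PX_inj hfix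
  refine ⟨fun i => decide (d (six.getD i.val 0) ≠ 0), Subtype.ext ?_⟩
  show prodX MT _ MT.posList _ = prodX MT _ MT.posList d
  refine (frame2 (F := L)).prodX_congr fun r hr => ?_
  by_cases h6 : r ∈ six
  · obtain ⟨i, hi, he⟩ := List.mem_iff_getElem.1 h6
    simp only [dd]
    rcases idem (hsq r hr) with e | e
    · rw [e, if_neg]
      rintro ⟨j, hj, hb⟩
      rw [hj] at hb
      simp [e] at hb
    · rw [e, if_pos]
      exact ⟨⟨i, hi⟩, by rw [List.getD_eq_getElem _ _ hi, he], by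
        simp only [List.getD_eq_getElem _ _ hi, he, e]; simp⟩
  · rw [hd0 r hr h6]; exact hd _ r hr h6

/-- the fixed elements inverted by a word -/
def PW (W : List (Fin MT.tab.l)) : Set (Gp L) :=
  {u | u ∈ Z.UTf ∧ ((R0 L).nw W)⁻¹ * u * (R0 L).nw W ∈ VT L}

theorem card_PW (W : List (Fin MT.tab.l)) : Nat.card (Z.PW W) ≤ 2 ^ (6 - (stay (tup W)).length) := by
  classical
  set s := stay (tup W) with hs
  have hnd : s.Nodup := six_nodup.filter _
  have hsub : ∀ r ∈ s, r ∈ six ∧ ∃ r' ∈ six, (MT.S).actw W r' = r := by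
    intro r hr
    obtain ⟨h1, h2⟩ := List.mem_filter.1 hr
    obtain ⟨r', hr', e⟩ := List.mem_map.1 (of_decide_eq_true h2)
    exact ⟨h1, r', hr', by rw [← img_actw, e]⟩
  let dd : (Fin s.length → Bool) → Ix → L := fun b r =>
    if ∃ i : Fin s.length, s[i.val] = r ∧ b i = true then 1 else 0
  have hd : ∀ b, ∀ r ∈ MT.posList, r ∉ six → dd b r = 0 := by
    intro b r _ h6
    refine if_neg ?_
    rintro ⟨i, rfl, -⟩
    exact h6 (hsub _ (List.getElem_mem _)).1
  have hq : ∀ b, PX (dd b) ∈ Z.UTf ∧ ((R0 L).nw W)⁻¹ * PX (dd b) * (R0 L).nw W ∈ (R0 L).U := by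
    intro b
    refine ⟨⟨PX_mem_UT (hd b), ?_⟩, ?_⟩
    · rw [Z.tau_PX (hd b)]
      congr 1
      funext r
      simp only [dd]
      split <;> simp
    · have : PX (dd b) ∈ ((R0 L).U).comap (MulAut.conj ((R0 L).nw W)⁻¹).toMonoidHom := by
        refine Subgroup.list_prod_mem _ fun y hy => ?_
        obtain ⟨r, -, rfl⟩ := List.mem_map.1 hy
        by_cases h : ∃ i : Fin s.length, s[i.val] = r ∧ b i = true
        · obtain ⟨i, rfl, -⟩ := h
          obtain ⟨-, r', hr', e⟩ := hsub s[i.val] (List.getElem_mem _)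
          show ((R0 L).nw W)⁻¹ * X s[i.val] (dd b s[i.val]) * ((R0 L).nw W)⁻¹⁻¹ ∈ (R0 L).U
          obtain ⟨c, hcx⟩ := (R0 L).nw_inv_conj_x W s[i.val] (dd b s[i.val])
          rw [inv_inv, hcx]
          refine (R0 L).x_mem_U ?_ _
          rw [← e, (MT.S).actw_reverse']
          exact six_pos r' hr'
        · rw [show dd b r = 0 from if_neg h, RootRel.x_zero]
          exact one_mem _
      simpa using this
  haveI : Finite Z.UTf := Subtype.finite
  let f : Z.PW W × (Fin s.length → Bool) → Z.UTf := fun p => ⟨p.1.1 * PX (dd p.2),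
    mul_mem p.1.2.1.1 (hq p.2).1.1, by rw [map_mul, p.1.2.1.2, (hq p.2).1.2]⟩
  have hf : Function.Injective f := by
    rintro ⟨⟨p, hp⟩, b⟩ ⟨⟨p', hp'⟩, b'⟩ h
    have h1 : p * PX (dd b) = p' * PX (dd b') := congrArg Subtype.val h
    set n := (R0 L).nw W
    have hV : n⁻¹ * p'⁻¹ * n * (n⁻¹ * p * n) ∈ VN L :=
      mul_mem (by simpa [mul_assoc] using inv_mem (VT_le_VN hp'.2)) (VT_le_VN hp.2)
    have hB : n⁻¹ * p'⁻¹ * n * (n⁻¹ * p * n) ∈ (R0 L).B := by
      have e : n⁻¹ * p'⁻¹ * n * (n⁻¹ * p * n) = (n⁻¹ * PX (dd b') * n) * (n⁻¹ * PX (dd b) * n)⁻¹ := by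
        rw [show n⁻¹ * p'⁻¹ * n * (n⁻¹ * p * n) = n⁻¹ * (p'⁻¹ * (p * PX (dd b))) * (PX (dd b))⁻¹ * n by
          group, h1]
        group
      rw [e]
      exact (R0 L).U_le_B (mul_mem (hq b').2 (inv_mem (hq b).2))
    have h2 : p' = p := by
      have := congrArg (fun g => n * g * n⁻¹) (B_inter_VN hB hV)
      simpa [mul_assoc, inv_mul_eq_one] using this
    subst h2
    have h3 := PX_inj (mul_left_cancel h1)
    refine Prod.ext rfl (funext fun i => ?_)
    have h4 := h3 s[i.val] (six_posList _ (hsub _ (List.getElem_mem _)).1)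
    have key : ∀ c : Fin s.length → Bool, dd c s[i.val] = if c i = true then 1 else 0 := by
      intro c
      simp only [dd]
      refine if_congr ⟨?_, fun h => ⟨i, rfl, h⟩⟩ rfl rfl
      rintro ⟨j, hj, hc⟩
      rwa [← Fin.ext (hnd.getElem_inj_iff.1 hj)]
    rw [key, key] at h4
    cases hb : b i <;> cases hb' : b' i <;> simp [hb, hb'] at h4 ⊢
  have h1 := (Nat.card_le_card_of_injective f hf).trans Z.card_UTf
  rw [Nat.card_prod, Nat.card_eq_fintype_card (α := Fin s.length → Bool), Fintype.card_fun,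
    Fintype.card_bool, Fintype.card_fin] at h1
  have hlen : s.length ≤ 6 := List.length_filter_le _ six
  refine Nat.le_of_mul_le_mul_right ?_ (pow_pos two_pos s.length)
  rw [← pow_add, Nat.sub_add_cancel hlen]
  exact h1

/-- the elements counted -/
def CC : Set (Gp L) := {g | g * Z.tt = Z.tt * g ∧ Z.tau g = g}

/-- a piece of the cells -/
def Cell (W : List (Fin MT.tab.l)) : Set (Gp L) :=
  {g | g ∈ Z.CC ∧ ∃ u₀ ∈ UT L, ((R0 L).nw W)⁻¹ * u₀ * (R0 L).nw W ∈ VT L ∧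
    ∃ u ∈ UT L, ∃ h ∈ (R0 L).H, g = u₀ * (R0 L).nw W * u * h}

theorem mon_hr (c : L) (hc : c ≠ 0) : Mon MT uGoodE6 ((R0 L).hr 56 c) [] :=
  Mon.of_H ((R0 L).hr_mem_H hc)

theorem tau_nw (W : List (Fin MT.tab.l)) (he : ∀ r, eR ((MT.S).actw W r) = eR r) :
    ∃ k ∈ (R0 L).H, Z.tau ((R0 L).nw W) = (R0 L).nw W * k := by
  set v : List (Fin MT.tab.l) := [0] ++ W.map (frame2 (F := L)).iso.ρIF ++ [0]
  have hm : Mon MT uGoodE6 (Z.tau ((R0 L).nw W)) v := by
    rw [tau_apply, show sg ((R0 L).nw W) = (R0 L).nw (W.map (frame2 (F := L)).iso.ρIF) from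
      (frame2 (F := L)).σ_nw W, Z.nn_eq]
    have h0 : Mon MT uGoodE6 ((R0 L).hr 56 Z.w⁻¹ * (R0 L).n 0) [0] := by
      simpa using (mon_hr Z.w⁻¹ (inv_ne_zero Z.w_ne)).mul (Mon.n (T := MT) (hU := uGoodE6) 0)
    exact (h0.mul (Mon.nw _)).mul (by simpa using h0.inv)
  have hact : ∀ r, (MT.S).actw v r = gam ((MT.S).actw W (gamI r)) := by
    intro r
    show (MT.S).actw ([0] ++ W.map (frame2 (F := L)).iso.ρIF ++ [0]) r = _
    rw [(MT.S).actw_append, (MT.S).actw_append, (MT.S).actw_cons, (MT.S).actw_cons, (MT.S).actw_nil,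
      (MT.S).actw_nil, gam, ← (frame2 (F := L)).rho_actw, gamI, E6Sub.rho_rho]
  have hc : ((List.finRange MT.tab.l).all fun j =>
      decide (gam (img (tup W) (gamI ((MT.S).simple j))) = (tup W).getD j.val 0)) = true :=
    List.all_eq_true.1 tups_facts.1 _ (tup_mem he)
  simp only [List.all_eq_true, decide_eq_true_eq] at hc
  have htup : tup v = tup W := by
    refine List.map_congr_left fun j _ => ?_
    rw [hact]
    have h := hc j (List.mem_finRange j)
    rw [img_actw] at h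
    rw [h]
    simp [tup, List.getD_eq_getElem?_getD]
  have hs : ∀ r, (MT.S).actw (W.reverse ++ v) r = r := fun r => by
    rw [(MT.S).actw_append, actw_of_tup htup, (MT.S).actw_reverse']
  refine ⟨((R0 L).nw W)⁻¹ * Z.tau ((R0 L).nw W), ((Mon.nw W).inv.mul hm).mem_H hs, by group⟩

theorem chi_k {W : List (Fin MT.tab.l)} (he : ∀ r, eR ((MT.S).actw W r) = eR r) {k : Gp L}
    (hk : k ∈ (R0 L).H) (hkW : Z.tau ((R0 L).nw W) = (R0 L).nw W * k) {r : Ix} (hr : r ∈ six) :
    chi MT k r = 1 := by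
  obtain ⟨e, hee, hx⟩ := (R0 L).nw_conj W r
  have he1 : e = 1 := by
    rcases mul_self_eq_one_iff.1 hee with h | h
    · exact h
    · rw [h, CharTwo.neg_eq]
  have h6 : (MT.S).actw W r ∈ six ++ sixN := by
    have h0 : eR ((MT.S).actw W r) = 0 := (he r).trans (six_e r hr)
    by_cases hp : (MT.S).pos ((MT.S).actw W r)
    · exact List.mem_append_left _ (mem_six _ (pos_posList _ hp) h0)
    · exact List.mem_append_right _ (mem_sixN _ hp h0)
  have h1 : (R0 L).nw W * X r 1 * ((R0 L).nw W)⁻¹ = X ((MT.S).actw W r) 1 := by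
    have := hx 1
    rwa [he1, one_mul] at this
  have h2 := congrArg Z.tau h1
  rw [map_mul, map_mul, map_inv, hkW, Z.tau_X6 (List.mem_append_left _ hr), Z.tau_X6 h6, one_pow,
    mul_inv_rev, show (R0 L).nw W * k * X r (1 : L) * (k⁻¹ * ((R0 L).nw W)⁻¹) =
      (R0 L).nw W * (k * X r (1 : L) * k⁻¹) * ((R0 L).nw W)⁻¹ by group, ← h1] at h2
  have h3 := mul_left_cancel (mul_right_cancel h2)
  exact (mul_one _).symm.trans (ChevTori.x_inj MT uGoodE6 r
    ((ChevTori.conj_x MT uGoodE6 hk r 1).symm.trans h3))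

theorem k_comm {W : List (Fin MT.tab.l)} (he : ∀ r, eR ((MT.S).actw W r) = eR r) {k : Gp L}
    (hk : k ∈ (R0 L).H) (hkW : Z.tau ((R0 L).nw W) = (R0 L).nw W * k) {u : Gp L} (hu : u ∈ UT L) :
    k * u = u * k := by
  have : UT L ≤ Subgroup.centralizer {k} := (Subgroup.closure_le _).2 <| by
    rintro _ ⟨r, a, hr, rfl⟩
    refine Subgroup.mem_centralizer_singleton_iff.2 ?_
    have h := ChevTori.conj_x MT uGoodE6 hk r a
    rw [Z.chi_k he hk hkW hr, one_mul, mul_inv_eq_iff_eq_mul] at h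
    exact h.symm
  exact (Subgroup.mem_centralizer_singleton_iff.1 (this hu)).symm

theorem card_Cell (W : List (Fin MT.tab.l)) (he : ∀ r, eR ((MT.S).actw W r) = eR r) :
    Nat.card (Z.Cell W) ≤ 2 ^ (6 - (stay (tup W)).length) * 320 := by
  classical
  obtain ⟨k, hk, hkW⟩ := Z.tau_nw W he
  set n := (R0 L).nw W
  have hdec : ∀ g ∈ Z.Cell W, ∃ p ∈ Z.PW W, ∃ u ∈ Z.UTf, ∃ h ∈ (R0 L).H,
      k * Z.tau h = h ∧ g = p * n * u * h := by
    rintro g ⟨⟨-, hfix⟩, u₀, hu₀, hv, u, hu, h, hh, e⟩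
    have hτh := Z.tau_H hh
    have hτu := Z.tau_UT hu
    have e2 : g = Z.tau u₀ * (n * k) * Z.tau u * Z.tau h := by
      rw [← hkW, ← map_mul, ← map_mul, ← map_mul, ← e, hfix]
    have hku : k * Z.tau u = Z.tau u * k := Z.k_comm he hk hkW hτu
    have hVn : n⁻¹ * Z.tau u₀ * n ∈ VT L := by
      have h1 := Z.tau_VT hv
      rw [map_mul, map_mul, map_inv, hkW] at h1
      have h2 := VT_H h1 hk
      simpa [mul_assoc] using h2
    have hB : n⁻¹ * (u₀⁻¹ * Z.tau u₀) * n ∈ (R0 L).B := by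
      have e3 : n⁻¹ * (u₀⁻¹ * Z.tau u₀) * n = u * h * (Z.tau h)⁻¹ * (Z.tau u)⁻¹ * k⁻¹ := by
        have e4 : u₀ * n * u * h = Z.tau u₀ * (n * k) * Z.tau u * Z.tau h := e.symm.trans e2
        calc n⁻¹ * (u₀⁻¹ * Z.tau u₀) * n
            = n⁻¹ * u₀⁻¹ * (Z.tau u₀ * (n * k) * Z.tau u * Z.tau h) * (Z.tau h)⁻¹ * (Z.tau u)⁻¹ * k⁻¹ := by
              group
          _ = _ := by rw [← e4]; group
      rw [e3]
      exact mul_mem (mul_mem (mul_mem (mul_mem ((R0 L).U_le_B (UT_le_U hu)) ((R0 L).H_le_B hh))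
        (inv_mem ((R0 L).H_le_B hτh))) (inv_mem ((R0 L).U_le_B (UT_le_U hτu))))
        (inv_mem ((R0 L).H_le_B hk))
    have hV : n⁻¹ * (u₀⁻¹ * Z.tau u₀) * n ∈ VN L := by
      have := mul_mem (inv_mem (VT_le_VN hv)) (VT_le_VN hVn)
      simpa [n, mul_assoc] using this
    have h0 : Z.tau u₀ = u₀ := by
      have := congrArg (fun g => n * g * n⁻¹) (B_inter_VN hB hV)
      exact (inv_mul_eq_one.1 (by simpa [mul_assoc] using this)).symm
    have e5 : u * h = Z.tau u * (k * Z.tau h) := by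
      have e4 : u₀ * n * u * h = Z.tau u₀ * (n * k) * Z.tau u * Z.tau h := e.symm.trans e2
      rw [h0] at e4
      refine mul_left_cancel (a := u₀ * n) ?_
      calc u₀ * n * (u * h) = u₀ * n * u * h := by group
        _ = u₀ * (n * k) * Z.tau u * Z.tau h := e4
        _ = u₀ * n * (k * Z.tau u) * Z.tau h := by group
        _ = _ := by rw [hku]; group
    have e6 : (Z.tau u)⁻¹ * u = k * Z.tau h * h⁻¹ := by
      rw [eq_mul_inv_iff_mul_eq, mul_assoc, e5, inv_mul_cancel_left]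
    have h7 := (MT.shapeR (relsOfCommGood ChevCore.commGoodE6 L)).U_inter_H
      (mul_mem (inv_mem (UT_le_U hτu)) (UT_le_U hu)) (e6 ▸ mul_mem (mul_mem hk hτh) (inv_mem hh))
    rw [e6] at h7
    exact ⟨u₀, ⟨⟨hu₀, h0⟩, hv⟩, u, ⟨hu, inv_mul_eq_one.1 (e6.trans h7)⟩, h, hh,
      mul_inv_eq_one.1 h7, e⟩
  by_cases hne : (Z.Cell W).Nonempty
  swap
  · rw [Set.not_nonempty_iff_eq_empty.1 hne]
    simp
  obtain ⟨g₁, hg₁⟩ := hne
  obtain ⟨-, -, -, -, h₁, hh₁, hk₁, -⟩ := hdec g₁ hg₁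
  haveI : Finite (Z.PW W × Z.UTf × Z.Ht) := inferInstance
  have hsub : ∀ g : Z.Cell W, ∃ q : Z.PW W × Z.UTf × Z.Ht, g.1 = q.1.1 * n * q.2.1.1 * (h₁ * q.2.2.1) := by
    intro g
    obtain ⟨p, hp, u, hu, h, hh, hkh, e⟩ := hdec g.1 g.2
    refine ⟨(⟨p, hp⟩, ⟨u, hu⟩, ⟨h₁⁻¹ * h, mul_mem (inv_mem hh₁) hh, ?_⟩), by rw [e, mul_inv_cancel_left]⟩
    rw [map_mul, map_inv]
    conv_rhs => rw [← hk₁, ← hkh]
    group
  choose q hq using hsub
  refine (Nat.card_le_card_of_injective q fun a b h => Subtype.ext (by rw [hq a, hq b, h])).trans ?_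
  rw [Nat.card_prod, Nat.card_prod]
  exact Nat.mul_le_mul (Z.card_PW W) (Nat.mul_le_mul Z.card_UTf Z.Ht_card)

/-- The number of elements commuting with the diagonal element and fixed by the twisting map. -/
theorem card_CC : Nat.card Z.CC ≤ 100800 := by
  classical
  let S : List Ix → Set (Gp L) := fun c =>
    if h : ∃ W, (∀ r, eR ((MT.S).actw W r) = eR r) ∧ tup W = c then Z.Cell h.choose else ∅
  have hS : ∀ c, (S c).ncard ≤ 2 ^ (6 - (stay c).length) * 320 := by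
    intro c
    simp only [S]
    split
    · next h =>
      rw [← Nat.card_coe_set_eq]
      exact (Z.card_Cell _ h.choose_spec.1).trans (by rw [h.choose_spec.2])
    · simp
  have hcov : Z.CC ⊆ ⋃ c ∈ tups, S c := by
    rintro g hg
    obtain ⟨w, hw, u₀, hu₀, hv, u, hu, h, hh, e⟩ := Z.decomp hg.1
    refine Set.mem_iUnion₂.2 ⟨tup w, tup_mem hw, ?_⟩
    have hex : ∃ W, (∀ r, eR ((MT.S).actw W r) = eR r) ∧ tup W = tup w := ⟨w, hw, rfl⟩
    simp only [S, dif_pos hex]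
    set W := hex.choose
    have hWw : ∀ r, (MT.S).actw (W.reverse ++ w) r = r := fun r => by
      rw [(MT.S).actw_append, actw_of_tup hex.choose_spec.2.symm, (MT.S).actw_reverse']
    have hk : ((R0 L).nw W)⁻¹ * (R0 L).nw w ∈ (R0 L).H :=
      ((Mon.nw (T := MT) (hU := uGoodE6) W).inv.mul (Mon.nw w)).mem_H hWw
    set k := ((R0 L).nw W)⁻¹ * (R0 L).nw w with hkdef
    have hw' : (R0 L).nw w = (R0 L).nw W * k := by rw [hkdef, mul_inv_cancel_left]
    refine ⟨hg, u₀, hu₀, ?_, k * u * k⁻¹, UT_H hu hk, k * h, mul_mem hk hh, by rw [e, hw']; group⟩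
    rw [hw'] at hv
    have := VT_H hv hk
    simpa [mul_assoc] using this
  have hfin : ∀ l : List (List Ix), (⋃ c ∈ l, S c).ncard ≤
      (l.map fun c => 2 ^ (6 - (stay c).length)).sum * 320 := by
    intro l
    induction l with
    | nil => simp
    | cons c l ih =>
      rw [List.map_cons, List.sum_cons, add_mul]
      refine le_trans (le_of_eq ?_) ((Set.ncard_union_le _ _).trans (add_le_add (hS c) ih))
      congr 1
      ext g
      simp
  rw [Nat.card_coe_set_eq]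
  refine ((Set.ncard_le_ncard hcov (Set.toFinite _)).trans (hfin tups)).trans ?_
  rw [tups_facts.2]

end Zeta

end Cfsg.Agent.E6Five
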