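import Cfsg.Agent.E6Five.Torus
import Cfsg.Agent.ChevTori.Centralizer

/-!
Products of root elements with trivial character, and the decomposition of an element commuting with the
diagonal element.
-/

set_option autoImplicit false
set_option maxRecDepth 4000

namespace Cfsg.Agent.E6Five

open Cfsg.Lie Cfsg.Agent.ChevCore Cfsg.Agent.ChevGroup Cfsg.Agent.ChevFixed Cfsg.Agent.Twisted
open Cfsg.Agent.Twisted.TypeE6
open Cfsg.Agent.E6Sub (Ix Gp R0 X)
open Cfsg.Agent.ChevTori (chi)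

variable {L : Type*} [Field L] [Fintype L] [CharP L 2]

/-- products of root elements at positive roots with trivial character -/
noncomputable def UT (L : Type*) [Field L] : Subgroup (Gp L) :=
  Subgroup.closure {g | ∃ r a, r ∈ six ∧ g = X r a}

/-- products of root elements at negative roots with trivial character -/
noncomputable def VT (L : Type*) [Field L] : Subgroup (Gp L) :=
  Subgroup.closure {g | ∃ r a, r ∈ sixN ∧ g = X r a}

/-- products of root elements at negative roots -/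
noncomputable def VN (L : Type*) [Field L] : Subgroup (Gp L) :=
  Subgroup.closure {g | ∃ r a, ¬ (MT.S).pos r ∧ g = X r a}

/-- ordered products over the positive roots -/
noncomputable abbrev PX (d : Ix → L) : Gp L :=
  prodX MT (relsOfCommGood ChevCore.commGoodE6 L) MT.posList d

theorem six_pos : ∀ r ∈ six, (MT.S).pos r := by decide +kernel

theorem six_e : ∀ r ∈ six, eR r = 0 := by decide +kernel

theorem sixN_e : ∀ r ∈ sixN, eR r = 0 := by decide +kernel

theorem mem_six : ∀ r ∈ MT.posList, eR r = 0 → r ∈ six := by decide +kernel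

theorem six_posList : ∀ r ∈ six, r ∈ MT.posList := by decide +kernel

theorem sixN_neg : ∀ r ∈ sixN, ¬ (MT.S).pos r := by decide +kernel

theorem mem_sixN : ∀ r : Ix, ¬ (MT.S).pos r → eR r = 0 → r ∈ sixN := by decide +kernel

theorem tau_facts : ∀ r ∈ six ++ sixN, gam r = r ∧ chevE6.pairing 56 (gam r).val = 0 := by
  decide +kernel

theorem posList_val : MT.posList.map Fin.val = chevE6.posRoots := by decide +kernel

theorem posList_pos : ∀ r ∈ MT.posList, (MT.S).pos r := by decide +kernel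

theorem UT_le_U : UT L ≤ (R0 L).U := (Subgroup.closure_le _).2 <| by
  rintro _ ⟨r, a, hr, rfl⟩
  exact (R0 L).x_mem_U (six_pos r hr) a

theorem VT_le_VN : VT L ≤ VN L := Subgroup.closure_mono <| by
  rintro _ ⟨r, a, hr, rfl⟩
  exact ⟨r, a, sixN_neg r hr, rfl⟩

theorem UT_H {g h : Gp L} (hg : g ∈ UT L) (hh : h ∈ (R0 L).H) : h * g * h⁻¹ ∈ UT L := by
  have : UT L ≤ (UT L).comap (MulAut.conj h).toMonoidHom := (Subgroup.closure_le _).2 <| by
    rintro _ ⟨r, a, hr, rfl⟩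
    exact Subgroup.subset_closure ⟨r, _, hr, ChevTori.conj_x MT uGoodE6 hh r a⟩
  exact this hg

theorem VT_H {g h : Gp L} (hg : g ∈ VT L) (hh : h ∈ (R0 L).H) : h * g * h⁻¹ ∈ VT L := by
  have : VT L ≤ (VT L).comap (MulAut.conj h).toMonoidHom := (Subgroup.closure_le _).2 <| by
    rintro _ ⟨r, a, hr, rfl⟩
    exact Subgroup.subset_closure ⟨r, _, hr, ChevTori.conj_x MT uGoodE6 hh r a⟩
  exact this hg

theorem B_inter_VN {g : Gp L} (hB : g ∈ (R0 L).B) (hV : g ∈ VN L) : g = 1 := by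
  set M := MT.shapeR (relsOfCommGood ChevCore.commGoodE6 L)
  have h2 : Uni (fun a => -M.key a) (M.mat g) := by
    clear hB
    induction hV using Subgroup.closure_induction'' with
    | mem y hy =>
      obtain ⟨r, a, hr, rfl⟩ := hy
      rw [← (MT.S).neg_neg r]
      exact M.uni_neg _ _ (((MT.S).pos_or_neg r).resolve_left hr)
    | inv_mem y hy =>
      obtain ⟨r, a, hr, rfl⟩ := hy
      rw [← (R0 L).x_neg, ← (MT.S).neg_neg r]
      exact M.uni_neg _ _ (((MT.S).pos_or_neg r).resolve_left hr)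
    | one => rw [M.mat_one]; intro a b _; simp [Matrix.one_apply]
    | mul a b _ _ ha hb => rw [M.mat_mul]; exact ha.mul hb
  refine M.eq_one ?_
  have h1 := M.tri_of_B hB
  ext a b
  rcases eq_or_ne a b with rfl | hab
  · rw [h2 a a le_rfl]; simp
  · rcases le_total (M.key a) (M.key b) with hk | hk
    · rw [h1.1 a b hab hk]; simp [hab]
    · rw [h2 a b (neg_le_neg hk)]; simp [hab]

theorem exists_PX {u : Gp L} (hu : u ∈ (R0 L).U) : ∃ d : Ix → L, u = PX d := by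
  have huP : (u : GL chevE6.Idx L) ∈ chevE6.posUnipotent L :=
    MT.U_map (relsOfCommGood ChevCore.commGoodE6 L) ▸ ⟨u, hu, rfl⟩
  obtain ⟨τ, ⟨-, hτ⟩, -⟩ := uGoodE6.exists_coords huP
  refine ⟨fun r => τ r.val, Subtype.ext ?_⟩
  rw [← hτ, PX, prodX, ← Subgroup.coe_subtype, map_list_prod, List.map_map, prodL, ← posList_val,
    List.map_map]
  exact congrArg List.prod (List.map_congr_left fun r _ => (E6Sub.val_X r _).symm)

theorem PX_inj {d d' : Ix → L} (h : PX d = PX d') : ∀ r ∈ MT.posList, d r = d' r :=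
  (frame2 (F := L)).prodX_inj (List.Sublist.refl _) h

theorem PX_mem_UT {d : Ix → L} (hd : ∀ r ∈ MT.posList, r ∉ six → d r = 0) : PX d ∈ UT L := by
  refine Subgroup.list_prod_mem _ fun y hy => ?_
  obtain ⟨r, hr, rfl⟩ := List.mem_map.1 hy
  by_cases h6 : r ∈ six
  · exact Subgroup.subset_closure ⟨r, _, h6, rfl⟩
  · rw [hd r hr h6, RootRel.x_zero]
    exact one_mem _

theorem conj_PX {h : Gp L} (hh : h ∈ (R0 L).H) (d : Ix → L) :
    h * PX d * h⁻¹ = PX fun r => chi MT h r * d r := by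
  rw [← MulAut.conj_apply, PX, prodX, map_list_prod, List.map_map]
  exact congrArg List.prod (List.map_congr_left fun r _ => ChevTori.conj_x MT uGoodE6 hh r _)

theorem supp_of_commute {u h : Gp L} {d : Ix → L} (e : u = PX d) (hh : h ∈ (R0 L).H)
    (hc : h * u = u * h) : ∀ r ∈ MT.posList, chi MT h r ≠ 1 → d r = 0 := by
  intro r hr hne
  have h1 : PX (fun r => chi MT h r * d r) = PX d := by
    rw [← conj_PX hh, ← e, hc, mul_inv_cancel_right]
  by_contra hd
  exact hne ((mul_eq_right₀ hd).1 (PX_inj h1 r hr))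

namespace Zeta

variable (Z : Zeta L)

theorem cst_one {r : Ix} (hr : r ∈ six ++ sixN) : Z.cst r = 1 := by
  rw [cst, (tau_facts r hr).2, zpow_zero]

theorem tau_X6 {r : Ix} (hr : r ∈ six ++ sixN) (a : L) : Z.tau (X r a) = X r (a ^ 2) := by
  rw [tau_X, Z.cst_one hr, (tau_facts r hr).1, one_mul]

theorem tau_UT {g : Gp L} (hg : g ∈ UT L) : Z.tau g ∈ UT L := by
  have : UT L ≤ (UT L).comap Z.tau := (Subgroup.closure_le _).2 <| by
    rintro _ ⟨r, a, hr, rfl⟩
    show Z.tau (X r a) ∈ UT L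
    rw [Z.tau_X6 (List.mem_append_left _ hr)]
    exact Subgroup.subset_closure ⟨r, _, hr, rfl⟩
  exact this hg

theorem tau_VT {g : Gp L} (hg : g ∈ VT L) : Z.tau g ∈ VT L := by
  have : VT L ≤ (VT L).comap Z.tau := (Subgroup.closure_le _).2 <| by
    rintro _ ⟨r, a, hr, rfl⟩
    show Z.tau (X r a) ∈ VT L
    rw [Z.tau_X6 (List.mem_append_right _ hr)]
    exact Subgroup.subset_closure ⟨r, _, hr, rfl⟩
  exact this hg

theorem tau_PX {d : Ix → L} (hd : ∀ r ∈ MT.posList, r ∉ six → d r = 0) :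
    Z.tau (PX d) = PX fun r => d r ^ 2 := by
  rw [PX, prodX, map_list_prod, List.map_map]
  refine congrArg List.prod (List.map_congr_left fun r hr => ?_)
  show Z.tau (X r (d r)) = X r (d r ^ 2)
  by_cases h6 : r ∈ six
  · exact Z.tau_X6 (List.mem_append_left _ h6) _
  · rw [hd r hr h6, zero_pow two_ne_zero, show X r (0 : L) = 1 from (R0 L).x_zero r, map_one]

theorem UT_commute {g : Gp L} (hg : g ∈ UT L) : Z.tt * g = g * Z.tt := by
  have : UT L ≤ Subgroup.centralizer {Z.tt} := (Subgroup.closure_le _).2 <| by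
    rintro _ ⟨r, a, hr, rfl⟩
    refine Subgroup.mem_centralizer_singleton_iff.2 ?_
    have h := ChevTori.conj_x MT uGoodE6 Z.tt_mem r a
    rw [Z.chi_tt_one.2 (six_e r hr), one_mul, mul_inv_eq_iff_eq_mul] at h
    exact h.symm
  exact (Subgroup.mem_centralizer_singleton_iff.1 (this hg)).symm

theorem exists_PX6 {u : Gp L} (hu : u ∈ (R0 L).U) (hc : Z.tt * u = u * Z.tt) :
    ∃ d : Ix → L, (∀ r ∈ MT.posList, r ∉ six → d r = 0) ∧ u = PX d := by
  obtain ⟨d, rfl⟩ := exists_PX hu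
  refine ⟨d, fun r hr h6 => supp_of_commute rfl Z.tt_mem hc r hr fun h => h6 ?_, rfl⟩
  exact mem_six r hr (Z.chi_tt_one.1 h)

theorem mem_UT {u : Gp L} (hu : u ∈ (R0 L).U) (hc : Z.tt * u = u * Z.tt) : u ∈ UT L := by
  obtain ⟨d, hd, rfl⟩ := Z.exists_PX6 hu hc
  exact PX_mem_UT hd

theorem w0_pos : ∀ r : Ix, ¬ (MT.S).pos r → (MT.S).pos ((MT.S).actw fd.w0.reverse r) := by
  decide +kernel

theorem w0_neg : ∀ r ∈ MT.posList, ¬ (MT.S).pos ((MT.S).actw fd.w0 r) := by decide +kernel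

theorem mem_VT {v : Gp L} (hv : v ∈ VN L) (hc : Z.tt * v = v * Z.tt) : v ∈ VT L := by
  set n := (R0 L).nw fd.w0
  have hvU : n⁻¹ * v * n ∈ (R0 L).U := by
    have : VN L ≤ ((R0 L).U).comap (MulAut.conj n⁻¹).toMonoidHom := (Subgroup.closure_le _).2 <| by
      rintro _ ⟨r, a, hr, rfl⟩
      obtain ⟨c, hcx⟩ := (R0 L).nw_inv_conj_x fd.w0 r a
      show n⁻¹ * X r a * n⁻¹⁻¹ ∈ (R0 L).U
      rw [inv_inv, hcx]
      exact (R0 L).x_mem_U (w0_pos r hr) _
    simpa using this hv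
  have htH : n⁻¹ * Z.tt * n ∈ (R0 L).H := (R0 L).nw_inv_conj_mem_H fd.w0 Z.tt_mem
  obtain ⟨d, hd⟩ := exists_PX hvU
  have hsupp := supp_of_commute hd htH (by
    calc n⁻¹ * Z.tt * n * (n⁻¹ * v * n) = n⁻¹ * (Z.tt * v) * n := by group
      _ = _ := by rw [hc]; group)
  have e : v = n * PX d * n⁻¹ := by rw [← hd]; group
  rw [e, ← MulAut.conj_apply, PX, prodX, map_list_prod, List.map_map]
  refine Subgroup.list_prod_mem _ fun y hy => ?_
  obtain ⟨r, hr, rfl⟩ := List.mem_map.1 hy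
  show n * X r (d r) * n⁻¹ ∈ _
  obtain ⟨c, -, hcx⟩ := (R0 L).nw_conj fd.w0 r
  by_cases hd0 : d r = 0
  · rw [hd0, show X r (0 : L) = 1 from (R0 L).x_zero r]; simp
  have h1 : chi MT (n⁻¹ * Z.tt * n) r = 1 := by_contra fun h => hd0 (hsupp r hr h)
  have h2 : chi MT Z.tt ((MT.S).actw fd.w0 r) = 1 := by
    have h3 := ChevTori.chi_conj MT uGoodE6 fd.w0 htH r
    rw [show (ChevTori.rr MT uGoodE6).nw fd.w0 = n from rfl,
      show n * (n⁻¹ * Z.tt * n) * n⁻¹ = Z.tt by group, h1] at h3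
    exact h3
  rw [hcx]
  exact Subgroup.subset_closure ⟨_, _, mem_sixN _ (w0_neg r hr) (Z.chi_tt_one.1 h2), rfl⟩

/-- The decomposition of an element commuting with the diagonal element. -/
theorem decomp {g : Gp L} (e : g * Z.tt = Z.tt * g) :
    ∃ w : List (Fin MT.tab.l), (∀ r, eR ((MT.S).actw w r) = eR r) ∧
      ∃ u₀ ∈ UT L, ((R0 L).nw w)⁻¹ * u₀ * (R0 L).nw w ∈ VT L ∧
        ∃ u ∈ UT L, ∃ h ∈ (R0 L).H, g = u₀ * (R0 L).nw w * u * h := by
  classical
  set K := relsOfCommGood ChevCore.commGoodE6 L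
  set R := R0 L
  set t := Z.tt
  obtain ⟨b₁, hb₁, w, hw, b₂, hb₂, rfl⟩ := R.exists_bruhat (g := g)
    ((MT.group_top K (frame2 (F := L)).witness_ok).symm ▸ Subgroup.mem_top g)
  obtain ⟨u₀, hu₀, hc⟩ := exists_fixed_rep (MT.shapeR K) (σ := RingHom.id L)
    (τ := MonoidHom.id (Gp L)) (fun r t => rfl)
    (fun r t hr => MT.pres_posList K (frame2 (F := L)).pos_span r t hr) w hw (b₁ * R.nw w * b₂)
    (mem_cell.2 ⟨b₁, hb₁, QuotientGroup.eq.2 (by
      show (b₁ * R.nw w)⁻¹ * (b₁ * R.nw w * b₂) ∈ R.B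
      rw [inv_mul_cancel_left]
      exact hb₂)⟩) rfl
  set b := (u₀ * R.nw w)⁻¹ * (b₁ * R.nw w * b₂)
  have hb : b ∈ R.B := QuotientGroup.eq.1 hc.symm
  have hg : b₁ * R.nw w * b₂ = u₀ * R.nw w * b := (mul_inv_cancel_left _ _).symm
  rw [hg] at e ⊢
  have hu₀U := fixU_le_U (RingHom.id L) w hu₀
  have hfix : R.nw w * t * (R.nw w)⁻¹ = t :=
    ChevTori.conj_key MT uGoodE6 (frame2 (F := L)).longest_ok (frame2 (F := L)).pos_span w
      Z.tt_mem Z.tt_mem (R.U_le_B hu₀U) hb e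
  have hlow : ∀ u ∈ fixU R (RingHom.id L) w, (R.nw w)⁻¹ * u * R.nw w ∈ VN L := by
    intro u hu
    have : fixU R (RingHom.id L) w ≤ (VN L).comap (MulAut.conj (R.nw w)⁻¹).toMonoidHom :=
      (Subgroup.closure_le _).2 <| by
        rintro _ ⟨r, a, -, hr, hr', rfl⟩
        obtain ⟨c, hcx⟩ := R.nw_inv_conj_x w r a
        show (R.nw w)⁻¹ * R.x r a * (R.nw w)⁻¹⁻¹ ∈ VN L
        rw [inv_inv, hcx]
        exact Subgroup.subset_closure ⟨_, _, hr', rfl⟩
    simpa using this hu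
  have hN : t * u₀ * t⁻¹ ∈ fixU R (RingHom.id L) w := by
    have : fixU R (RingHom.id L) w ≤ (fixU R (RingHom.id L) w).comap (MulAut.conj t).toMonoidHom :=
      (Subgroup.closure_le _).2 <| by
        rintro _ ⟨r, a, -, hr, hr', rfl⟩
        exact Subgroup.subset_closure
          ⟨r, _, rfl, hr, hr', ChevTori.conj_x MT uGoodE6 Z.tt_mem r a⟩
    exact this hu₀
  have hu'' : u₀⁻¹ * (t * u₀ * t⁻¹) ∈ fixU R (RingHom.id L) w := mul_mem (inv_mem hu₀) hN
  have hyw : t * R.nw w = R.nw w * t := by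
    calc t * R.nw w = R.nw w * t * (R.nw w)⁻¹ * R.nw w := by rw [hfix]
      _ = _ := by group
  have heq : (R.nw w)⁻¹ * (u₀⁻¹ * (t * u₀ * t⁻¹)) * R.nw w = b * t * b⁻¹ * t⁻¹ := by
    have h2 : t * u₀ * R.nw w = u₀ * R.nw w * b * t * b⁻¹ := by
      calc t * u₀ * R.nw w = t * (u₀ * R.nw w * b) * b⁻¹ := by group
        _ = _ := by rw [← e]
    calc (R.nw w)⁻¹ * (u₀⁻¹ * (t * u₀ * t⁻¹)) * R.nw w
        = (R.nw w)⁻¹ * u₀⁻¹ * (t * u₀ * R.nw w) * (R.nw w)⁻¹ * (t⁻¹ * R.nw w) := by group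
      _ = (R.nw w)⁻¹ * u₀⁻¹ * (t * u₀ * R.nw w) * (R.nw w)⁻¹ * (R.nw w * t⁻¹) := by
          rw [show t⁻¹ * R.nw w = R.nw w * t⁻¹ by rw [inv_mul_eq_iff_eq_mul, ← mul_assoc, hyw]; group]
      _ = _ := by rw [h2]; group
  have hB : b * t * b⁻¹ * t⁻¹ ∈ R.B :=
    mul_mem (mul_mem (mul_mem hb (R.H_le_B Z.tt_mem)) (inv_mem hb)) (inv_mem (R.H_le_B Z.tt_mem))
  have h4 := B_inter_VN hB (heq ▸ hlow _ hu'')
  rw [h4] at heq
  have hu₀t : t * u₀ = u₀ * t := by
    have h6 : u₀⁻¹ * (t * u₀ * t⁻¹) = 1 := by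
      have := congrArg (fun g => R.nw w * g * (R.nw w)⁻¹) heq
      simpa [mul_assoc] using this
    exact mul_inv_eq_iff_eq_mul.1 (inv_mul_eq_one.1 h6).symm
  obtain ⟨u, hu, k, hk, hbk⟩ := R.mem_B_iff.1 hb
  have hut : t * u = u * t := by
    have hky : k * t = t * k := ChevTori.H_commute MT uGoodE6 hk Z.tt_mem
    have h1 : b * t = t * b := by
      apply mul_left_cancel (a := u₀ * R.nw w)
      calc u₀ * R.nw w * (b * t) = u₀ * R.nw w * b * t := by group
        _ = t * (u₀ * R.nw w * b) := e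
        _ = t * u₀ * R.nw w * b := by group
        _ = u₀ * (t * R.nw w) * b := by rw [hu₀t]; group
        _ = _ := by rw [hyw]; group
    rw [← hbk] at h1
    apply mul_right_cancel (b := k)
    calc t * u * k = t * (u * k) := by group
      _ = u * k * t := h1.symm
      _ = u * (k * t) := by group
      _ = _ := by rw [hky]; group
  refine ⟨w, fun r => ?_, u₀, Z.mem_UT hu₀U hu₀t, Z.mem_VT (hlow u₀ hu₀) ?_, u, Z.mem_UT hu hut,
    k, hk, by rw [← hbk]; group⟩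
  · refine Z.eR_eq ?_
    have := ChevTori.chi_conj MT uGoodE6 w Z.tt_mem r
    rw [show (ChevTori.rr MT uGoodE6).nw w * Z.tt * ((ChevTori.rr MT uGoodE6).nw w)⁻¹ = Z.tt from hfix]
      at this
    exact this
  · show t * ((R.nw w)⁻¹ * u₀ * R.nw w) = (R.nw w)⁻¹ * u₀ * R.nw w * t
    calc t * ((R.nw w)⁻¹ * u₀ * R.nw w) = (t⁻¹)⁻¹ * (R.nw w)⁻¹ * u₀ * R.nw w := by group
      _ = (R.nw w)⁻¹ * t * u₀ * R.nw w := by
          rw [inv_inv, show t * (R.nw w)⁻¹ = (R.nw w)⁻¹ * t by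
            rw [eq_inv_mul_iff_mul_eq, ← mul_assoc]; exact hfix]
      _ = (R.nw w)⁻¹ * u₀ * (t * R.nw w) := by rw [mul_assoc _ t u₀, hu₀t]; group
      _ = _ := by rw [hyw]; group

end Zeta

end Cfsg.Agent.E6Five
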