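import Mathlib.GroupTheory.Sylow
import Mathlib.GroupTheory.Commutator.Basic
import Mathlib.Algebra.Group.TypeTags.Finite
import Mathlib.Algebra.Field.ZMod
import Mathlib.Tactic.NormNum.Prime
import Mathlib.GroupTheory.SpecificGroups.Cyclic

/-!
Fusion of elements of order five when a Sylow subgroup has order 25.
-/

set_option autoImplicit false

namespace Cfsg.Agent.E6Five

open scoped commutatorElement

local instance fact_prime_five : Fact (Nat.Prime 5) := ⟨Nat.prime_five⟩

variable {G : Type*} [Group G]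

/-- powers with exponents modulo five -/
def pw (g : G) (a : ZMod 5) : G := g ^ a.val

theorem pw_nat {g : G} (h : g ^ 5 = 1) (n : ℕ) : g ^ n = pw g (n : ZMod 5) := by
  rw [pw, ZMod.val_natCast, pow_eq_pow_mod n h]

theorem pw_add {g : G} (h : g ^ 5 = 1) (a b : ZMod 5) : pw g (a + b) = pw g a * pw g b := by
  rw [pw, pw, pw, ← pow_add, pw_nat h (a.val + b.val), pw]
  simp

theorem pw_zero (g : G) : pw g 0 = 1 := by simp [pw]

theorem pw_one (g : G) : pw g 1 = g := by rw [pw, show (1 : ZMod 5).val = 1 from rfl, pow_one]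

theorem pw_pow {g : G} (h : g ^ 5 = 1) (a s : ZMod 5) : pw g a ^ s.val = pw g (a * s) := by
  rw [pw, ← pow_mul, pw_nat h]
  simp

theorem pw_inv {g : G} (h : g ^ 5 = 1) (a : ZMod 5) : (pw g a)⁻¹ = pw g (-a) :=
  inv_eq_of_mul_eq_one_right (by rw [← pw_add h, add_neg_cancel, pw_zero])

theorem eq_zero_of_pw {g : G} (h : g ^ 5 = 1) (h1 : g ≠ 1) {a : ZMod 5} (e : pw g a = 1) : a = 0 := by
  by_contra ha
  refine h1 ?_
  have h2 := pw_pow h a a⁻¹
  rw [e, one_pow, mul_inv_cancel₀ ha, pw_one] at h2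
  exact h2.symm

theorem isConj_pow {g h : G} (e : IsConj g h) (n : ℕ) : IsConj (g ^ n) (h ^ n) := by
  obtain ⟨c, rfl⟩ := isConj_iff.1 e
  exact isConj_iff.2 ⟨c, (conj_pow).symm⟩

/-- Fusion of the elements of order five. -/
theorem fusion [Finite G] (hdvd : ¬ 5 ^ 3 ∣ Nat.card G) (x y d : G) (hx5 : x ^ 5 = 1) (hx : x ≠ 1)
    (hy5 : y ^ 5 = 1) (hy : y ≠ 1) (hxy : Commute x y) (hdx : Commute d x)
    (hdy : d * y * d⁻¹ = y ^ 2) (D : Subgroup G)
    (hD : ∀ a b, Commute a x → Commute b x → ⁅a, b⁆ ∈ D)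
    (hDx : ∀ a : ZMod 5, pw x a ∈ D → a = 0)
    (K : Subgroup G) (z : Fin 3 → K) (hz : ∀ i, IsConj y (z i : G))
    (hzK : ∀ i j (n : ℕ), IsConj (z i ^ n) (z j) → i = j) :
    ∀ g : G, orderOf g = 5 → IsConj g x := by
  classical
  have hyD : y ∈ D := by
    have := hD d y hdx hxy.symm
    rwa [commutatorElement_def, hdy, pow_two, mul_inv_cancel_right] at this
  let f : ZMod 5 → ZMod 5 → G := fun a b => pw x a * pw y b
  have hc : ∀ a b, Commute (pw x a) (pw y b) := fun a b => hxy.pow_pow _ _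
  have hmul : ∀ a b a' b', f a b * f a' b' = f (a + a') (b + b') := fun a b a' b' => by
    simp only [f, pw_add hx5, pw_add hy5]
    exact Commute.mul_mul_mul_comm (hc a' b).symm _ _
  have hf0 : f 0 0 = 1 := by simp [f, pw_zero]
  let P : Subgroup G :=
    { carrier := {g | ∃ a b, g = f a b}
      one_mem' := ⟨0, 0, hf0.symm⟩
      mul_mem' := by rintro _ _ ⟨a, b, rfl⟩ ⟨a', b', rfl⟩; exact ⟨_, _, hmul a b a' b'⟩
      inv_mem' := by
        rintro _ ⟨a, b, rfl⟩
        exact ⟨-a, -b, inv_eq_of_mul_eq_one_right (by rw [hmul, add_neg_cancel, add_neg_cancel, hf0])⟩ }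
  have hfD : ∀ a b, f a b ∈ D → a = 0 := fun a b h => hDx a <| by
    have h1 : pw y b ∈ D := pow_mem hyD b.val
    exact (mul_mem_cancel_right h1).1 h
  have hinj : ∀ a b a' b', f a b = f a' b' → a = a' ∧ b = b' := by
    intro a b a' b' e
    have e2 : f (a + -a') (b + -b') = 1 := by
      rw [← hmul, e, hmul, add_neg_cancel, add_neg_cancel, hf0]
    have ha := hfD _ _ (e2 ▸ one_mem D)
    have hb : b + -b' = 0 := eq_zero_of_pw hy5 hy (by simpa [f, ha, pw_zero] using e2)
    exact ⟨add_neg_eq_zero.1 ha, add_neg_eq_zero.1 hb⟩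
  have hP : Nat.card P = 25 := by
    rw [← Nat.card_congr (Equiv.ofBijective
      (fun p : ZMod 5 × ZMod 5 => (⟨f p.1 p.2, p.1, p.2, rfl⟩ : P))
      ⟨fun p q h => Prod.ext_iff.2 (hinj _ _ _ _ (congrArg Subtype.val h)),
        fun ⟨g, a, b, e⟩ => ⟨(a, b), Subtype.ext e.symm⟩⟩), Nat.card_prod, Nat.card_zmod]
  have hfac : (Nat.card G).factorization 5 = 2 := by
    have h2 : 5 ^ 2 ∣ Nat.card G := by
      rw [show (5 ^ 2 : ℕ) = 25 by norm_num, ← hP]; exact Subgroup.card_subgroup_dvd_card P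
    have h1 := (Nat.prime_five.pow_dvd_iff_le_factorization Nat.card_pos.ne').1 h2
    by_contra hne
    exact hdvd ((Nat.prime_five.pow_dvd_iff_le_factorization Nat.card_pos.ne').2 (by omega))
  let S : Sylow 5 G := Sylow.ofCard P (by rw [hP, hfac]; norm_num)
  have hS : (S : Subgroup G) = P := rfl
  haveI : IsMulCommutative (S : Subgroup G) := ⟨⟨by
    rintro ⟨_, a, b, rfl⟩ ⟨_, a', b', rfl⟩
    exact Subtype.ext (by
      show f a b * f a' b' = f a' b' * f a b
      rw [hmul, hmul, add_comm a, add_comm b])⟩⟩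
  have hypw : ∀ b : ZMod 5, b ≠ 0 → IsConj (pw y b) y := by
    have h2 : ∀ b : ZMod 5, IsConj (pw y b) (pw y (2 * b)) := fun b =>
      isConj_iff.2 ⟨d, by rw [pw, ← conj_pow, hdy, ← pow_mul, pw_nat hy5]; simp⟩
    intro b hb
    have h1 := h2 1
    have h4 := h1.trans (h2 _)
    have h3 := h4.trans (h2 _)
    rw [mul_one, pw_one] at h1 h4 h3
    rcases (show b = 1 ∨ b = 2 ∨ b = 2 * 2 ∨ b = 2 * (2 * 2) by revert b; decide) with
      rfl | rfl | rfl | rfl
    · rw [pw_one]
    exacts [h1.symm, h4.symm, h3.symm]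
  have hdd : ∀ a b b' : ZMod 5, b ≠ 0 → b' ≠ 0 → IsConj (f a b) (f a b') := by
    have h2 : ∀ a b, IsConj (f a b) (f a (2 * b)) := fun a b => isConj_iff.2 ⟨d, by
      simp only [f, pw]
      rw [show d * (x ^ a.val * y ^ b.val) * d⁻¹ = (d * x ^ a.val * d⁻¹) * (d * y ^ b.val * d⁻¹) by group,
        (hdx.pow_right _).eq, mul_inv_cancel_right, ← conj_pow, hdy, ← pow_mul, pw_nat hy5 (2 * b.val)]
      simp [pw]⟩
    intro a b b' hb hb'
    have h1 := h2 a b
    have h4 := h1.trans (h2 _ _)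
    have h3 := h4.trans (h2 _ _)
    have key : ∀ b b' : ZMod 5, b ≠ 0 → b' ≠ 0 →
      b' = b ∨ b' = 2 * b ∨ b' = 2 * (2 * b) ∨ b' = 2 * (2 * (2 * b)) := by decide
    rcases key b b' hb hb' with rfl | rfl | rfl | rfl
    exacts [IsConj.refl _, h1, h4, h3]
  have hfpow : ∀ a b s, f a b ^ s.val = f (a * s) (b * s) := fun a b s => by
    show (pw x a * pw y b) ^ s.val = _
    rw [(hc a b).mul_pow, pw_pow hx5, pw_pow hy5]
  -- an element of the diagonal conjugate to `y`
  obtain ⟨i, j, hi, hj, hu⟩ : ∃ i j : ZMod 5, i ≠ 0 ∧ j ≠ 0 ∧ IsConj y (f i j) := by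
    let Q : Sylow 5 K := default
    obtain ⟨k, hk⟩ := IsPGroup.iff_card.1 Q.isPGroup'
    have hzord : ∀ l, orderOf (z l) = 5 := fun l => orderOf_eq_prime
      (Subtype.ext (by
        obtain ⟨c, hc'⟩ := isConj_iff.1 (hz l)
        rw [Subgroup.coe_pow, ← hc', conj_pow, hy5]; simp))
      (fun h => by
        obtain ⟨c, hc'⟩ := isConj_iff.1 (hz l)
        rw [h, Subgroup.coe_one, conj_eq_one_iff] at hc'
        exact hy hc')
    have hmemQ : ∀ l, ∃ c : K, c * z l * c⁻¹ ∈ (Q : Subgroup K) := fun l => by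
      obtain ⟨R, hR⟩ := (IsPGroup.of_card (n := 1) (p := 5)
        (G := Subgroup.zpowers (z l)) (by rw [Nat.card_zpowers, hzord, pow_one])).exists_le_sylow
      obtain ⟨c, rfl⟩ := MulAction.exists_smul_eq K Q R
      have h := hR (Subgroup.mem_zpowers (z l))
      obtain ⟨q, hq, e⟩ := h
      refine ⟨c⁻¹, ?_⟩
      rw [inv_inv, ← e]
      show c⁻¹ * (c * q * c⁻¹) * c ∈ _
      rw [show c⁻¹ * (c * q * c⁻¹) * c = q by group]
      exact hq
    choose cz hcz using hmemQ
    have hzne : ∀ l l' (n : ℕ), (cz l * z l * (cz l)⁻¹) ^ n = cz l' * z l' * (cz l')⁻¹ → l = l' := by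
      intro l l' n e
      refine hzK l l' n ?_
      have h1 : IsConj (z l ^ n) ((cz l * z l * (cz l)⁻¹) ^ n) := isConj_pow (isConj_iff.2 ⟨cz l, rfl⟩) n
      rw [e] at h1
      exact h1.trans (isConj_iff.2 ⟨cz l', rfl⟩).symm
    have hQ : Nat.card (Q : Subgroup K) = 25 := by
      have hdv : 5 ^ k ∣ Nat.card G := hk ▸ (Subgroup.card_subgroup_dvd_card (Q : Subgroup K)).trans
        (Subgroup.card_subgroup_dvd_card K)
      have h2 := (Nat.prime_five.pow_dvd_iff_le_factorization Nat.card_pos.ne').1 hdv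
      rw [hfac] at h2
      rw [hk]
      interval_cases k
      · have h1 := Subgroup.orderOf_dvd_natCard (Q : Subgroup K) (hcz 0)
        rw [hk, show orderOf (cz 0 * z 0 * (cz 0)⁻¹) = orderOf (z 0) from MulEquiv.orderOf_eq (MulAut.conj (cz 0)) (z 0), hzord] at h1
        norm_num at h1
      · exfalso
        rw [pow_one] at hk
        have hne : (⟨_, hcz 0⟩ : (Q : Subgroup K)) ≠ 1 := fun h => by
          have := congrArg Subtype.val h
          simp only [Subgroup.coe_one] at this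
          rw [conj_eq_one_iff] at this
          simpa [this] using hzord 0
        obtain ⟨n, hn⟩ := mem_powers_of_prime_card hk (g' := (⟨_, hcz 1⟩ : (Q : Subgroup K))) hne
        exact absurd (hzne 0 1 n (congrArg Subtype.val hn)) (by decide)
      · norm_num
    have hQmap : Nat.card ((Q : Subgroup K).map K.subtype) = 5 ^ (Nat.card G).factorization 5 := by
      rw [Nat.card_congr ((Q : Subgroup K).equivMapOfInjective K.subtype Subtype.coe_injective).toEquiv.symm,
        hQ, hfac]; norm_num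
    obtain ⟨g, hg⟩ := MulAction.exists_smul_eq G (Sylow.ofCard _ hQmap) S
    have hw : ∀ l, g * ((cz l * z l * (cz l)⁻¹ : K) : G) * g⁻¹ ∈ P := fun l => by
      rw [← hS, ← hg]
      exact ⟨_, ⟨_, hcz l, rfl⟩, rfl⟩
    have hconj : ∀ l, IsConj y (g * ((cz l * z l * (cz l)⁻¹ : K) : G) * g⁻¹) := fun l =>
      (hz l).trans (isConj_iff.2 ⟨g * (cz l : G), by simp [mul_assoc]⟩)
    choose A B hAB using hw
    have hsame : ∀ l l' (s : ZMod 5), A l * s = A l' → B l * s = B l' → l = l' := fun l l' s ha hb => by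
      refine hzne l l' s.val (Subtype.ext ?_)
      have e : (g * ((cz l * z l * (cz l)⁻¹ : K) : G) * g⁻¹) ^ s.val =
          g * ((cz l' * z l' * (cz l')⁻¹ : K) : G) * g⁻¹ := by rw [hAB, hAB, hfpow, ha, hb]
      rw [conj_pow] at e
      rw [Subgroup.coe_pow]
      exact mul_left_cancel (mul_right_cancel e)
    have hnz : ∀ l, A l = 0 → B l = 0 → False := fun l ha hb => by
      have e := hconj l
      rw [hAB, ha, hb, hf0] at e
      exact hy (isConj_one_left.1 e)
    by_contra hcon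
    push Not at hcon
    have hax : ∀ l, A l = 0 ∨ B l = 0 := fun l => by
      by_contra h
      push Not at h
      exact hcon _ _ h.1 h.2 (hAB l ▸ hconj l)
    have honeA : ∀ l l', A l = 0 → A l' = 0 → l = l' := fun l l' h h' =>
      hsame l l' ((B l)⁻¹ * B l') (by rw [h, h', zero_mul])
        (mul_inv_cancel_left₀ (fun e => hnz l h e) _)
    have honeB : ∀ l l', B l = 0 → B l' = 0 → l = l' := fun l l' h h' =>
      hsame l l' ((A l)⁻¹ * A l') (mul_inv_cancel_left₀ (fun e => hnz l e h) _)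
        (by rw [h, h', zero_mul])
    rcases hax 0 with h0 | h0 <;> rcases hax 1 with h1 | h1 <;> rcases hax 2 with h2 | h2 <;>
      first
        | exact absurd (honeA 0 1 h0 h1) (by decide)
        | exact absurd (honeA 0 2 h0 h2) (by decide)
        | exact absurd (honeA 1 2 h1 h2) (by decide)
        | exact absurd (honeB 0 1 h0 h1) (by decide)
        | exact absurd (honeB 0 2 h0 h2) (by decide)
        | exact absurd (honeB 1 2 h1 h2) (by decide)
  -- the normaliser controls fusion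
  have hxy' : IsConj x y := by
    obtain ⟨c, hc'⟩ := isConj_iff.1 hu
    obtain ⟨n, hn, e⟩ := S.conj_eq_normalizer_conj_of_mem y c⁻¹
      (show y ∈ P from ⟨0, 1, by simp [f, pw_zero, pw_one]⟩)
      (show c⁻¹⁻¹ * y * c⁻¹ ∈ P by rw [inv_inv, hc']; exact ⟨i, j, rfl⟩)
    rw [inv_inv, hc'] at e
    have hnx : n⁻¹ * x * n ∈ P :=
      (Subgroup.mem_normalizer_iff''.1 hn x).1 (show x ∈ P from ⟨1, 0, by simp [f, pw_zero, pw_one]⟩)
    obtain ⟨a, b, hab⟩ := hnx
    have hconjx : IsConj x (f a b) := isConj_iff.2 ⟨n⁻¹, by rw [inv_inv, hab]⟩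
    by_cases hb : b = 0
    · exfalso
      subst hb
      have hv : n⁻¹ * x * n = pw x a := by rw [hab]; simp [f, pw_zero]
      have ha : a ≠ 0 := fun h => hx (by
        rw [h, pw_zero] at hv
        calc x = n * (n⁻¹ * x * n) * n⁻¹ := by group
          _ = 1 := by rw [hv]; simp)
      have hcomm : ∀ c, Commute c x → Commute (n⁻¹ * c * n) x := by
        intro c hc2
        have h1 : Commute (n⁻¹ * c * n) (pw x a) := by
          rw [← hv]
          show n⁻¹ * c * n * (n⁻¹ * x * n) = n⁻¹ * x * n * (n⁻¹ * c * n)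
          calc _ = n⁻¹ * (c * x) * n := by group
            _ = _ := by rw [hc2.eq]; group
        have := h1.pow_right (a⁻¹ : ZMod 5).val
        rwa [pw_pow hx5, mul_inv_cancel₀ ha, pw_one] at this
      have h1 := hD _ _ (hcomm d hdx) (hcomm y hxy.symm)
      have h2 : ⁅n⁻¹ * d * n, n⁻¹ * y * n⁆ = n⁻¹ * y * n := by
        calc ⁅n⁻¹ * d * n, n⁻¹ * y * n⁆ = n⁻¹ * (d * y * d⁻¹ * y⁻¹) * n := by
              rw [commutatorElement_def]; group
          _ = _ := by rw [hdy, pow_two, mul_inv_cancel_right]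
      rw [h2, ← e] at h1
      exact hi (hfD _ _ h1)
    by_cases ha : a = 0
    · subst ha
      refine hconjx.trans ?_
      simp only [f, pw_zero, one_mul]
      exact hypw b hb
    set s := i * a⁻¹
    have hs : s ≠ 0 := mul_ne_zero hi (inv_ne_zero ha)
    have h1 := isConj_pow hconjx s.val
    rw [hfpow, show a * (i * a⁻¹) = i by rw [mul_left_comm, mul_inv_cancel₀ ha, mul_one]] at h1
    have h2 : IsConj (x ^ s.val) y := (h1.trans (hdd i _ j (mul_ne_zero hb hs) hj)).trans hu.symm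
    have h3 := isConj_pow h2 (s⁻¹ : ZMod 5).val
    rw [show (x ^ s.val) ^ (s⁻¹ : ZMod 5).val = pw x s ^ (s⁻¹ : ZMod 5).val from rfl, pw_pow hx5,
      mul_inv_cancel₀ hs, pw_one] at h3
    exact h3.trans (hypw _ (inv_ne_zero hs))
  have hall : ∀ a b : ZMod 5, ¬ (a = 0 ∧ b = 0) → IsConj (f a b) x := by
    intro a b hab
    refine IsConj.trans ?_ hxy'.symm
    by_cases hb : b = 0
    · subst hb
      have ha : a ≠ 0 := fun h => hab ⟨h, rfl⟩
      simp only [f, pw_zero, mul_one]
      exact (isConj_pow hxy' a.val).trans (hypw a ha)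
    by_cases ha : a = 0
    · subst ha
      simp only [f, pw_zero, one_mul]
      exact hypw b hb
    set s := a * i⁻¹
    have hs : s ≠ 0 := mul_ne_zero ha (inv_ne_zero hi)
    have h1 := isConj_pow hu s.val
    rw [hfpow, show i * (a * i⁻¹) = a by rw [mul_left_comm, mul_inv_cancel₀ hi, mul_one]] at h1
    exact ((hdd a b _ hb (mul_ne_zero hj hs)).trans h1.symm).trans (hypw s hs)
  intro g hg
  obtain ⟨R, hR⟩ := (IsPGroup.of_card (n := 1) (p := 5) (G := Subgroup.zpowers g)
    (by rw [Nat.card_zpowers, hg, pow_one])).exists_le_sylow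
  obtain ⟨c, hc'⟩ := MulAction.exists_smul_eq G R S
  have hmem : c * g * c⁻¹ ∈ P := by
    rw [← hS, ← hc']
    exact ⟨g, hR (Subgroup.mem_zpowers g), rfl⟩
  obtain ⟨a, b, e⟩ := hmem
  refine (isConj_iff.2 ⟨c, e⟩).trans (hall a b fun h => ?_)
  rw [h.1, h.2, hf0, conj_eq_one_iff] at e
  rw [e, orderOf_one] at hg
  norm_num at hg

end Cfsg.Agent.E6Five
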