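import Cfsg.Agent.E6Five.Bound
import Cfsg.Agent.E6Five.Blocks
import Cfsg.Agent.E6Five.Fusion
import Mathlib.FieldTheory.Finite.GaloisField

/-!
The elements of order five of the twisted group of type E6 over two elements.
-/

set_option autoImplicit false
set_option maxRecDepth 4000

namespace Cfsg.Agent.E6Five

open Cfsg.Lie Cfsg.Agent.ChevCore Cfsg.Agent.ChevGroup Cfsg.Agent.Twisted Cfsg.Agent.Twisted.TypeE6
open Cfsg.Agent.E6Sub (Ix Gp R0 X Cq)
open scoped MatrixGroups commutatorElement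

local instance fact_two : Fact (Nat.Prime 2) := ⟨Nat.prime_two⟩
local instance fact_five : Fact (Nat.Prime 5) := ⟨Nat.prime_five⟩

section maps

variable {F : Type*} [Field F]

theorem hom_ext_X {G : Type*} [Group G] {f g : Gp F →* G} (h : ∀ r t, f (X r t) = g (X r t)) :
    f = g := by
  refine MonoidHom.ext ?_
  rintro ⟨a, ha⟩
  induction ha using Subgroup.closure_induction with
  | mem y hy =>
    obtain ⟨r, t, hy⟩ := hy
    let r' : Ix := ⟨r.val, MT.n_eq.symm ▸ r.isLt⟩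
    have e : (⟨y, Subgroup.subset_closure ⟨r, t, hy⟩⟩ : Gp F) = X r' t := by
      refine Model.mat_inj ?_
      show (y : Matrix chevE6.Idx chevE6.Idx F) = chevE6.x F r.val t
      rw [ChevalleyDatum.x, dif_pos r.isLt, hy]
    rw [e]
    exact h r' t
  | one => exact (map_one f).trans (map_one g).symm
  | mul a b ha hb h1 h2 =>
    rw [show (⟨a * b, mul_mem ha hb⟩ : Gp F) = ⟨a, ha⟩ * ⟨b, hb⟩ from rfl, map_mul, map_mul, h1, h2]
  | inv a ha h1 =>
    rw [show (⟨a⁻¹, inv_mem ha⟩ : Gp F) = ⟨a, ha⟩⁻¹ from rfl, map_inv, map_inv, h1]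

variable [Fintype F] [CharP F 2] {L : Type*} [Field L] [Fintype L] [CharP L 2] (ι : F →+* L)

/-- extension of the field -/
noncomputable abbrev mg : Gp F →* Gp L := ChevFixed.mapGroup ι

theorem mg_X (r : Ix) (t : F) : mg ι (X r t) = X r (ι t) :=
  Model.mat_inj (ChevFixed.x_map (D := chevE6) ι r.val t)

theorem mg_sg (g : Gp F) : sg (mg ι g) = mg ι (sg g) :=
  DFunLike.congr_fun (hom_ext_X (f := sg.comp (mg ι)) (g := (mg ι).comp sg) fun r t => by
    simp only [MonoidHom.comp_apply, mg_X, sg_X, map_pow]) g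

theorem mg_xel (a : F) : mg ι (xel a) = xel (ι a) := by
  simp [xel, a5, pn, dbl_apply, map_mul, fsl_U, fsl_L, phiR_U, phiR_L, mg_X]

end maps

theorem actw_y2 : y1w.map ((MT.S).actw (fd.O.word [2])) = y2w := by decide +kernel

theorem actw_y3 : y1w.map ((MT.S).actw (fd.O.word [3, 2])) = y3w := by decide +kernel

variable {K : Type*} [Field K] [Fintype K]

/-- the data of the field with four elements -/
def cq (hK : Fintype.card K = 4) : Cq K := ⟨2, Nat.prime_two.isPrimePow, hK⟩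

theorem char_two (hK : Fintype.card K = 4) : CharP K 2 :=
  charP_of_card_eq_prime_pow (f := 2) hK

variable [CharP K 2] (hK : Fintype.card K = 4)

include hK

theorem mem_G1 {g : Gp K} : g ∈ (cq hK).G1 ↔ sg g = g :=
  ⟨fun h => (cq hK).sig_fix h, fun h =>
    (cq hK).gens'.mem_of_fixed long_ok (by decide +kernel) (by decide +kernel) h⟩

theorem pow_four (a : K) : a ^ 4 = a := hK ▸ FiniteField.pow_card a

theorem DG_le : DG K ≤ (cq hK).G1 := fun _ hg => (mem_G1 hK).2 (DG_fixed hg)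

/-- the group generated by the long root elements with parameter one -/
noncomputable def KL (K : Type*) [Field K] : Subgroup (Gp K) :=
  Subgroup.closure ((fun r : Ix => X r (1 : K)) '' {r | r ∈ longs})

theorem KL_le : KL K ≤ (cq hK).G1 := by
  refine (Subgroup.closure_le _).2 ?_
  rintro _ ⟨r, hr, rfl⟩
  refine (mem_G1 hK).2 ?_
  have h := (List.mem_filter.1 hr).2
  rw [sg_X, one_pow, of_decide_eq_true h]

theorem nW_conj_wX (W : List (Fin 4)) (l : List Ix) :
    (cq hK).dat.nW W * wX l * ((cq hK).dat.nW W)⁻¹ = wX (l.map ((MT.S).actw (fd.O.word W))) := by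
  rw [← MulAut.conj_apply, wX, map_list_prod, List.map_map, wX, List.map_map]
  refine congrArg List.prod (List.map_congr_left fun r _ => ?_)
  obtain ⟨c, hc, hcq, he⟩ := (cq hK).nW_conj W r
  show (cq hK).dat.nW W * X r (1 : K) * ((cq hK).dat.nW W)⁻¹ = X ((MT.S).actw (fd.O.word W) r) (1 : K)
  have hc1 : c = 1 := mul_left_cancel₀ hc (by
    rw [← pow_two, mul_one]; exact hcq)
  rw [he, hc1, one_mul]

variable {L : Type*} [Field L] [Fintype L] [CharP L 2]

theorem card_centralizer (a : K) (ι : K →+* L) (Z : Zeta L) (hw : ι a = Z.w) (hx : xel a ∈ (cq hK).G1) :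
    Nat.card (Subgroup.centralizer ({(⟨xel a, hx⟩ : ↥(cq hK).G1)} : Set ↥(cq hK).G1)) ≤ 100800 := by
  have hxL : mg ι (xel a) = xel Z.w := by rw [mg_xel, hw]
  have hf : ∀ g : ↥(Subgroup.centralizer ({(⟨xel a, hx⟩ : ↥(cq hK).G1)} : Set ↥(cq hK).G1)),
      Z.g0 * mg ι g.1.1 * Z.g0⁻¹ ∈ Z.CC := by
    rintro ⟨⟨g, hg⟩, hc⟩
    have hc' : g * xel a = xel a * g :=
      congrArg Subtype.val (Subgroup.mem_centralizer_singleton_iff.1 hc)
    refine ⟨?_, Z.tau_conj (by rw [mg_sg, (cq hK).sig_fix hg |> fun h => (show sg g = g from h)])⟩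
    rw [← Z.g0_xel, ← hxL]
    show Z.g0 * mg ι g * Z.g0⁻¹ * (Z.g0 * mg ι (xel a) * Z.g0⁻¹) =
      Z.g0 * mg ι (xel a) * Z.g0⁻¹ * (Z.g0 * mg ι g * Z.g0⁻¹)
    calc _ = Z.g0 * mg ι (g * xel a) * Z.g0⁻¹ := by rw [map_mul]; group
      _ = _ := by rw [hc', map_mul]; group
  refine (Nat.card_le_card_of_injective (fun g => (⟨_, hf g⟩ : Z.CC)) fun g h e => ?_).trans Z.card_CC
  have := mul_left_cancel (mul_right_cancel (congrArg Subtype.val e))
  exact Subtype.ext (Subtype.ext (ChevFixed.mapGroup_injective ι this))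

/-- the hypotheses for the three elements -/
theorem not_conj_pow {z : Fin 3 → List Ix} (hz : ∀ i, z i = [y1w, y2w, y3w].getD i.val [])
    (hKL : ∀ i, wX (z i) ∈ KL K) (h5 : ∀ i, (wX (z i) : Gp K) ^ 5 = 1)
    (hne : ∀ i, (wX (z i) : Gp K) ≠ 1) (i j : Fin 3) (n : ℕ) (c : Gp K) (hc : c ∈ KL K)
    (e : c * wX (z i) ^ n * c⁻¹ = wX (z j)) : i = j := by
  have hzL : ∀ i, ∀ r ∈ z i, r ∈ longs := fun i r hr => by
    refine words_long r ?_
    rw [hz i] at hr
    fin_cases i <;> simp at hr ⊢ <;> tauto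
  have hn : n % 5 ≠ 0 := fun h => hne j (by
    rw [← e, pow_eq_pow_mod n (h5 i), h, pow_zero, mul_one, mul_inv_cancel])
  have key : ∀ b, ((zw (B8 b) (z i)) ^ (n % 5)).trace = (zw (B8 b) (z j)).trace := by
    intro b
    have hB := B8_inj b
    have hP : ∀ g ∈ KL K, PB (B8 b) g := fun g hg => PB_closure (okB8 b) hg
    have hpow : ∀ k : ℕ, bm (B8 b) (wX (z i) ^ k : Gp K) = bm (B8 b) (wX (z i)) ^ k := by
      intro k
      induction k with
      | zero => rw [pow_zero, pow_zero, bm_one hB]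
      | succ k ih => rw [pow_succ, bm_mul hB (hP _ (hKL i)), ih, pow_succ]
    have h1 := congrArg (fun g => (bm (B8 b) g).trace) e
    rw [bm_mul hB (hP _ (inv_mem hc)), bm_mul hB (hP _ (pow_mem (hKL i) n)), Matrix.trace_mul_comm,
      ← Matrix.mul_assoc, ← bm_mul hB (hP _ hc), inv_mul_cancel, bm_one hB, Matrix.one_mul,
      pow_eq_pow_mod n (h5 i), hpow, bm_wX hB (okB8 b) _ (hzL i), bm_wX hB (okB8 b) _ (hzL j),
      ← Matrix.map_pow] at h1
    refine (fp (F := K)).injective ?_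
    rw [AddMonoidHom.map_trace, AddMonoidHom.map_trace]
    exact h1
  have hk := trs_facts ⟨n % 5, Nat.mod_lt _ (by norm_num)⟩ hn
  have h1 := trs_facts 1 (by decide)
  have e1 : trs (z i) (n % 5) = trs (z j) 1 := by
    rw [trs, trs, pow_one, pow_one, key 0, key 1]
  rw [hz i, hz j] at e1
  replace h1 : trs y1w 1 = (0, 0) ∧ trs y2w 1 = (0, 1) ∧ trs y3w 1 = (1, 0) := h1
  replace hk : trs y1w (n % 5) = (0, 0) ∧ trs y2w (n % 5) = (0, 1) ∧ trs y3w (n % 5) = (1, 0) := hk
  fin_cases i <;> fin_cases j <;> simp_all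

/-- The elements of order five, given the identification of the two fields. -/
theorem main_aux (a : K) (ha : a ^ 2 + a + 1 = 0) (ι : K →+* L) (Z : Zeta L) (hw : ι a = Z.w) :
    ∃ x : ↥((cq hK).G1), orderOf x = 5 ∧
    (∀ g : ↥((cq hK).G1), orderOf g = 5 → IsConj g x) ∧
    Nonempty (↥(Subgroup.centralizer ({x} : Set ↥((cq hK).G1))) ≃*
      (Multiplicative (ZMod 5) × ↥(alternatingGroup (Fin 8)))) := by
  classical
  have hx : xel a ∈ (cq hK).G1 := (mem_G1 hK).2 (sg_dbl_fix (pow_four hK) _)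
  let x : ↥(cq hK).G1 := ⟨xel a, hx⟩
  have hx5 : x ^ 5 = 1 := Subtype.ext (xel_pow ha)
  have hx1 : x ≠ 1 := fun h => xel_ne_one a (congrArg Subtype.val h)
  let S := Subgroup.centralizer ({x} : Set ↥(cq hK).G1)
  have hmemS : ∀ {g : ↥(cq hK).G1}, g ∈ S ↔ g * x = x * g := fun {g} =>
    Subgroup.mem_centralizer_singleton_iff
  let D : Subgroup ↥(cq hK).G1 := (DG K).subgroupOf (cq hK).G1
  have hxD : x ∉ D := xel_not_mem a
  have hDx : ∀ b : ZMod 5, pw x b ∈ D → b = 0 := fun b hb => by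
    by_contra hne
    refine hxD ?_
    have := pow_mem hb (b⁻¹ : ZMod 5).val
    rwa [pw_pow hx5, mul_inv_cancel₀ hne, pw_one] at this
  have hDS : D ≤ S := fun g hg => hmemS.2 (Subtype.ext (DG_commute hg (a5 a)).eq)
  -- the direct product
  let f1 : Multiplicative (ZMod 5) →* ↥S :=
    MonoidHom.mk' (fun b => ⟨pw x b.toAdd, hmemS.2 (Commute.pow_self x _).eq⟩)
      fun b c => Subtype.ext (pw_add hx5 b.toAdd c.toAdd)
  let f2 : ↥(DG K) →* ↥S :=
    (Subgroup.inclusion hDS).comp (Subgroup.subgroupOfEquivOfLe (DG_le hK)).symm.toMonoidHom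
  have hcomm : ∀ b g, Commute (f1 b) (f2 g) := fun b g =>
    Subtype.ext ((show Commute (f2 g).1 x from hmemS.1 (f2 g).2).pow_right _).symm.eq
  let Φ := MonoidHom.noncommCoprod f1 f2 hcomm
  have hΦ : Function.Injective Φ := by
    rw [injective_iff_map_eq_one]
    rintro ⟨b, g⟩ h
    have h1 : (f1 b).1 * (f2 g).1 = 1 := congrArg Subtype.val h
    have hb : b.toAdd = 0 := hDx _ (by
      show (f1 b).1 ∈ D
      rw [eq_inv_of_mul_eq_one_left h1]
      exact inv_mem (show (f2 g).1 ∈ D from ((Subgroup.subgroupOfEquivOfLe (DG_le hK)).symm g).2))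
    have hb1 : b = 1 := hb
    subst hb1
    rw [map_one, Subgroup.coe_one, one_mul] at h1
    exact Prod.ext rfl (Subtype.ext (congrArg (fun z : ↥(cq hK).G1 => (z : Gp K)) h1))
  have hS : Nat.card S ≤ 100800 := card_centralizer hK a ι Z hw hx
  haveI : Finite (Gp K) := Subtype.finite
  have hDle : Nat.card (DG K) ≤ 20160 := by
    have := (Nat.card_le_card_of_injective Φ hΦ).trans hS
    rw [Nat.card_prod, Nat.card_congr Multiplicative.toAdd, Nat.card_zmod] at this
    omega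
  choose ψ hψ using pi4_surj (F := K)
  have hψi : Function.Injective ψ := fun s t h => Subtype.ext (by
    have := hψ s
    rw [h, hψ t] at this
    exact (Matrix.map_injective (fp (F := K)).injective this).symm)
  have hψb : Function.Bijective ψ :=
    (Nat.bijective_iff_injective_and_card ψ).2 ⟨hψi, le_antisymm
      (Nat.card_le_card_of_injective ψ hψi) (by rw [card_A8]; exact hDle)⟩
  have hpi : Function.Injective (pi4 K) := fun g h e => by
    obtain ⟨s, rfl⟩ := hψb.2 g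
    obtain ⟨t, rfl⟩ := hψb.2 h
    rw [hψ, hψ] at e
    rw [Subtype.ext (Matrix.map_injective (fp (F := K)).injective e)]
  let ψe : Matrix.SpecialLinearGroup (Fin 4) (ZMod 2) ≃* ↥(DG K) :=
    MulEquiv.ofBijective (MonoidHom.mk' ψ fun s t => hpi (by
      rw [map_mul, hψ, hψ, hψ, Matrix.SpecialLinearGroup.coe_mul, Matrix.map_mul])) hψb
  have hSeq : Nat.card S = 100800 := by
    refine le_antisymm hS ?_
    have := Nat.card_le_card_of_injective Φ hΦ
    rw [Nat.card_prod, Nat.card_congr Multiplicative.toAdd, Nat.card_zmod,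
      ← Nat.card_congr ψe.toEquiv, card_A8] at this
    exact this
  have hΦb : Function.Bijective Φ := (Nat.bijective_iff_injective_and_card Φ).2 ⟨hΦ, by
    rw [hSeq, Nat.card_prod, Nat.card_congr Multiplicative.toAdd, Nat.card_zmod,
      ← Nat.card_congr ψe.toEquiv, card_A8]⟩
  have hD : ∀ g h : ↥(cq hK).G1, Commute g x → Commute h x → ⁅g, h⁆ ∈ D := by
    intro g h hg hh
    obtain ⟨p, hp⟩ := hΦb.2 ⟨g, hmemS.2 hg.eq⟩
    obtain ⟨q, hq⟩ := hΦb.2 ⟨h, hmemS.2 hh.eq⟩
    have e : ⁅g, h⁆ = (Φ ⁅p, q⁆).1 := by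
      rw [map_commutatorElement, hp, hq]; rfl
    have e1 : (⁅p, q⁆).1 = 1 := by
      show ⁅p.1, q.1⁆ = 1
      exact commutatorElement_eq_one_iff_mul_comm.2 (mul_comm _ _)
    rw [e, show Φ ⁅p, q⁆ = f1 (⁅p, q⁆).1 * f2 (⁅p, q⁆).2 from rfl, e1, map_one, one_mul]
    exact ((Subgroup.subgroupOfEquivOfLe (DG_le hK)).symm (⁅p, q⁆).2).2
  -- the element of the group of type A3
  have hy1D : ∀ r ∈ y1w, r ∈ dRoots := fun r hr => words_D r (List.mem_append_left _ hr)
  have hdwD : ∀ r ∈ dw, r ∈ dRoots := fun r hr => words_D r (List.mem_append_right _ hr)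
  let yd : ↥(DG K) := ⟨wX y1w, wX_mem hy1D⟩
  let dd : ↥(DG K) := ⟨wX dw, wX_mem hdwD⟩
  have hyd5 : yd ^ 5 = 1 := hpi (by
    rw [map_pow, pi4_wX hy1D, map_one, ← Matrix.map_pow, y1_facts.1, Matrix.map_one _ (map_zero _) (map_one _)])
  have hyd1 : yd ≠ 1 := fun h => y1_facts.2.2 (Matrix.map_injective (fp (F := K)).injective (by
    show (zw B4 y1w).map (fp (F := K)) = (1 : Matrix (Fin 4) (Fin 4) (ZMod 2)).map (fp (F := K))
    rw [← pi4_wX hy1D, show (⟨wX y1w, wX_mem hy1D⟩ : ↥(DG K)) = yd from rfl, h, map_one,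
      Matrix.map_one _ (map_zero _) (map_one _)]))
  have hdyd : dd * yd * dd⁻¹ = yd ^ 2 := mul_inv_eq_iff_eq_mul.2 (hpi (by
    rw [map_mul, map_mul, map_pow, pi4_wX hdwD, pi4_wX hy1D, ← Matrix.map_pow, ← Matrix.map_mul,
      ← Matrix.map_mul, y1_facts.2.1]))
  let j : ↥(DG K) →* ↥(cq hK).G1 := Subgroup.inclusion (DG_le hK)
  have hj : Function.Injective j := Subgroup.inclusion_injective _
  -- the three elements
  let z : Fin 3 → List Ix := fun i => [y1w, y2w, y3w].getD i.val []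
  have hzKL : ∀ i, (wX (z i) : Gp K) ∈ KL K := fun i => wX_mem fun r hr => words_long r (by
    fin_cases i <;> simp [z] at hr ⊢ <;> tauto)
  have hzc : ∀ i, ∃ c ∈ (cq hK).G1, c * wX y1w * c⁻¹ = (wX (z i) : Gp K) := by
    intro i
    fin_cases i
    · exact ⟨1, one_mem _, by simp [z]⟩
    · exact ⟨_, (cq hK).dat.nW_mem [2], by rw [nW_conj_wX hK, actw_y2]; rfl⟩
    · exact ⟨_, (cq hK).dat.nW_mem [3, 2], by rw [nW_conj_wX hK, actw_y3]; rfl⟩
  have hz5 : ∀ i, (wX (z i) : Gp K) ^ 5 = 1 := fun i => by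
    obtain ⟨c, -, e⟩ := hzc i
    rw [← e, conj_pow, show (wX y1w : Gp K) ^ 5 = 1 from congrArg Subtype.val hyd5]
    simp
  have hzne : ∀ i, (wX (z i) : Gp K) ≠ 1 := fun i h => by
    obtain ⟨c, -, e⟩ := hzc i
    rw [h, conj_eq_one_iff] at e
    exact hyd1 (Subtype.ext e)
  let KS : Subgroup ↥(cq hK).G1 := (KL K).subgroupOf (cq hK).G1
  let zK : Fin 3 → ↥KS := fun i => ⟨⟨wX (z i), KL_le hK (hzKL i)⟩, hzKL i⟩
  have hdvd : ¬ 5 ^ 3 ∣ Nat.card ↥(cq hK).G1 := by
    intro h
    have h1 : Nat.card ↥(cq hK).G1 = Nat.card ↥(twistedE6 K 2) := by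
      rw [← show (cq hK).G1.map (chevE6.group K).subtype = twistedE6 K 2 from genG_map (e6Words K 2)]
      exact Nat.card_congr ((cq hK).G1.equivMapOfInjective _ Subtype.coe_injective).toEquiv
    have h2 := card_G (F := K) (q := 2) ((cq hK).Z) Nat.prime_two.isPrimePow hK
    rw [← h1] at h2
    have h3 := h.trans (dvd_mul_left _ (Nat.gcd 3 (2 + 1)))
    rw [h2] at h3
    norm_num at h3
  have hfus := fusion hdvd x (j yd) (j dd) hx5 hx1 (by rw [← map_pow, hyd5, map_one])
    (fun h => hyd1 (hj (h.trans (map_one j).symm)))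
    (show Commute x (j yd) from Subtype.ext (DG_commute yd.2 (a5 a)).symm.eq)
    (show Commute (j dd) x from Subtype.ext (DG_commute dd.2 (a5 a)).eq)
    (by rw [← map_inv, ← map_mul, ← map_mul, hdyd, map_pow]) D hD hDx KS zK
    (fun i => by
      obtain ⟨c, hc, e⟩ := hzc i
      exact isConj_iff.2 ⟨⟨c, hc⟩, Subtype.ext e⟩)
    (fun i l n h => by
      obtain ⟨c, hc⟩ := isConj_iff.1 h
      exact not_conj_pow hK (z := z) (fun _ => rfl) hzKL hz5 hzne i l n c.1.1 c.2
        (congrArg (fun q : ↥KS => ((q : ↥(cq hK).G1) : Gp K)) hc))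
  haveI : Fact (Nat.Prime 5) := fact_five
  refine ⟨x, orderOf_eq_prime hx5 hx1, hfus, ?_⟩
  obtain ⟨e8⟩ := LinearGroup.PSL42.equiv
  exact ⟨(MulEquiv.ofBijective Φ hΦb).symm.trans
    (MulEquiv.prodCongr (MulEquiv.refl _) (ψe.symm.trans e8))⟩

omit [CharP K 2] in
/-- The elements of order five. -/
theorem main : ∃ x : ↥((cq hK).G1), orderOf x = 5 ∧
    (∀ g : ↥((cq hK).G1), orderOf g = 5 → IsConj g x) ∧
    Nonempty (↥(Subgroup.centralizer ({x} : Set ↥((cq hK).G1))) ≃*
      (Multiplicative (ZMod 5) × ↥(alternatingGroup (Fin 8)))) := by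
  classical
  haveI := char_two hK
  obtain ⟨a, ha0, ha1⟩ : ∃ a : K, a ≠ 0 ∧ a ≠ 1 := by
    by_contra hcon
    push Not at hcon
    have h : (Finset.univ : Finset K) ⊆ {0, 1} := fun a _ => by
      by_cases h0 : a = 0
      · simp [h0]
      · simp [hcon a h0]
    have := (Finset.card_le_card h).trans Finset.card_le_two
    rw [Finset.card_univ, hK] at this
    omega
  have ha : a ^ 2 + a + 1 = 0 := by
    refine mul_left_cancel₀ (sub_ne_zero.2 ha1) ?_
    refine mul_left_cancel₀ ha0 ?_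
    linear_combination pow_four hK a
  haveI : Fintype (GaloisField 2 4) := Fintype.ofFinite _
  have hL : Fintype.card (GaloisField 2 4) = 16 := by
    rw [← Nat.card_eq_fintype_card, GaloisField.card 2 4 (by norm_num)]
    rfl
  letI : Algebra (ZMod 2) K := ZMod.algebra K 2
  have hfin : Module.finrank (ZMod 2) K = 2 := by
    have := Module.card_eq_pow_finrank (K := ZMod 2) (V := K)
    rw [hK, ZMod.card] at this
    exact (Nat.pow_right_injective le_rfl (this.symm.trans (by norm_num : (4 : ℕ) = 2 ^ 2)))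
  obtain ⟨ι0⟩ : Nonempty (K →ₐ[ZMod 2] GaloisField 2 4) :=
    FiniteField.nonempty_algHom_of_finrank_dvd (by
      rw [hfin, GaloisField.finrank 2 (by norm_num)]; norm_num)
  let ι : K →+* GaloisField 2 4 := ι0.toRingHom
  obtain ⟨u, hu⟩ := exists_prime_orderOf_dvd_card (G := (GaloisField 2 4)ˣ) 5
    (by rw [Fintype.card_units, hL]; norm_num)
  let Z : Zeta (GaloisField 2 4) :=
    { hL := hL
      z := (u : GaloisField 2 4)
      h5 := by rw [← Units.val_pow_eq_pow_val, ← hu, pow_orderOf_eq_one, Units.val_one]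
      h1 := fun h => by
        rw [Units.val_eq_one] at h
        simp [h] at hu }
  have h2 : (2 : GaloisField 2 4) = 0 := CharTwo.two_eq_zero
  have h1 : (ι a) ^ 2 + ι a + 1 = 0 := by
    rw [← map_pow, ← map_add, ← map_one ι, ← map_add, ha, map_zero]
  have hprod : (Z.w - ι a) * (Z.w - (ι a + 1)) = 0 := by
    linear_combination Z.w_eq + h1 - (ι a * Z.w + Z.w + 1) * h2
  rcases mul_eq_zero.1 hprod with e | e
  · exact main_aux hK a ha ι Z (sub_eq_zero.1 e).symm
  · refine main_aux hK (a + 1) ?_ ι Z (by rw [map_add, map_one]; exact (sub_eq_zero.1 e).symm)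
    have h2' : (2 : K) = 0 := CharTwo.two_eq_zero
    linear_combination ha + (a + 1) * h2'

end Cfsg.Agent.E6Five
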