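import Cfsg.Agent.E6Five.Tuples
import Cfsg.Agent.CG26.ChevInv.Normal

/-!
Over the field with sixteen elements the element of order five is conjugate to a diagonal element, and the
twisting map is carried to another one preserving the diagonal subgroup.
-/

set_option autoImplicit false
set_option maxRecDepth 4000

namespace Cfsg.Agent.E6Five

open Cfsg.Lie Cfsg.Agent.ChevCore Cfsg.Agent.ChevGroup Cfsg.Agent.ChevIsogeny Cfsg.Agent.Twisted
open Cfsg.Agent.Twisted.TypeE6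
open Cfsg.Agent.E6Sub (Ix Gp R0 X)
open Cfsg.Agent.ChevTori (chi cf)
open scoped MatrixGroups

/-- an element of order five in the multiplicative group -/
structure Zeta (L : Type*) [Field L] [Fintype L] where
  hL : Fintype.card L = 16
  z : L
  h5 : z ^ 5 = 1
  h1 : z ≠ 1

namespace Zeta

variable {L : Type*} [Field L] [Fintype L] [CharP L 2] (Z : Zeta L)

omit [CharP L 2] in
theorem z_ne : Z.z ≠ 0 := fun h => by simpa [h] using Z.h5

omit [CharP L 2] in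
theorem inv_z : Z.z⁻¹ = Z.z ^ 4 := inv_eq_of_mul_eq_one_right (by rw [← pow_succ', Z.h5])

omit [CharP L 2] in
theorem order : orderOf Z.z = 5 := by
  haveI : Fact (Nat.Prime 5) := ⟨by norm_num⟩
  exact orderOf_eq_prime Z.h5 Z.h1

/-- the trace -/
def w : L := Z.z + Z.z⁻¹

theorem w_eq : Z.w ^ 2 + Z.w + 1 = 0 := by
  have h2 : (2 : L) = 0 := CharTwo.two_eq_zero
  have hs : Z.z ^ 4 + Z.z ^ 3 + Z.z ^ 2 + Z.z + 1 = 0 := by
    refine mul_left_cancel₀ (sub_ne_zero.2 Z.h1) ?_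
    rw [mul_zero]
    linear_combination Z.h5
  rw [w, Z.inv_z]
  linear_combination hs + Z.z ^ 3 * Z.h5 + Z.z ^ 5 * h2

theorem w_ne : Z.w ≠ 0 := fun h => by
  have := Z.w_eq
  simp [h] at this

theorem w4 : Z.w ^ 4 = Z.w := by
  linear_combination (Z.w ^ 2 - Z.w) * Z.w_eq

/-- the diagonalising matrix -/
noncomputable def mm : SL(2, L) := ⟨!![Z.z / Z.w, Z.w⁻¹; Z.z⁻¹, 1], by
  have hw := Z.w_ne
  rw [Matrix.det_fin_two_of, CharTwo.sub_eq_add]
  field_simp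
  rw [w]
  field_simp [Z.z_ne]⟩

theorem mm_val : ((Z.mm : SL(2, L)) : Matrix (Fin 2) (Fin 2) L) = !![Z.z / Z.w, Z.w⁻¹; Z.z⁻¹, 1] := rfl

theorem mm_a5 : Z.mm * a5 Z.w = ph slU slL Z.z * Z.mm := by
  refine Subtype.ext ?_
  rw [Matrix.SpecialLinearGroup.coe_mul, Matrix.SpecialLinearGroup.coe_mul, a5_val, ph_sl Z.z_ne, mm_val]
  have hw := Z.w_ne
  have hz := Z.z_ne
  have h2 : (2 : L) = 0 := CharTwo.two_eq_zero
  have hwd : Z.w * Z.z = Z.z ^ 2 + 1 := by rw [w]; field_simp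
  ext i j
  fin_cases i <;> fin_cases j <;> simp [Matrix.mul_apply, Fin.sum_univ_two] <;> field_simp <;> grind

theorem mm_fsl : Z.mm = pn slU slL Z.w⁻¹ * fsl (fsl Z.mm) := by
  refine Subtype.ext ?_
  rw [Matrix.SpecialLinearGroup.coe_mul, fsl_val, fsl_val, mm_val, pn_sl (inv_ne_zero Z.w_ne)]
  have hw := Z.w_ne
  have h4 : (Z.z ^ 2) ^ 2 = Z.z⁻¹ := by rw [Z.inv_z]; ring
  have hw4 : (Z.w ^ 2) ^ 2 = Z.w := by rw [← pow_mul]; exact Z.w4
  ext i j
  fin_cases i <;> fin_cases j <;>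
    simp [Matrix.mul_apply, Fin.sum_univ_two, frobenius_def, div_pow, inv_pow, h4, hw4,
      CharTwo.neg_eq] <;> field_simp

/-- the conjugating element -/
noncomputable def g0 : Gp L := dbl Z.mm

/-- the diagonal element -/
noncomputable def tt : Gp L := dbl (ph slU slL Z.z)

theorem g0_xel : Z.g0 * xel Z.w * Z.g0⁻¹ = Z.tt := by
  rw [g0, xel, tt, ← map_mul, Z.mm_a5, map_mul, mul_inv_cancel_right]

theorem sg_xel : sg (xel Z.w) = xel Z.w := by
  have e : fsl (fsl (a5 Z.w)) = a5 Z.w := by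
    have e1 : fsl (pn slU slL (1 : L)) = pn slU slL 1 := by simp [pn, fsl_U, fsl_L, CharTwo.neg_eq]
    rw [a5, map_mul, map_mul, fsl_U, fsl_U, e1, e1, ← pow_mul, Z.w4]
  rw [xel, sg_dbl, e, dbl_apply]

/-- the correcting element -/
noncomputable def nn : Gp L := (R0 L).nr 56 Z.w⁻¹

theorem g0_sg : Z.g0 * (sg Z.g0)⁻¹ = Z.nn := by
  rw [g0, sg_dbl, dbl_apply, mul_inv_rev, mul_assoc, mul_inv_cancel_left, ← map_inv, ← map_mul,
    show Z.mm * (fsl (fsl Z.mm))⁻¹ = pn slU slL Z.w⁻¹ by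
      rw [mul_inv_eq_iff_eq_mul]; exact Z.mm_fsl]
  exact CG26.ChevInv.phi_pn MT uGoodE6 _ _

/-- the twisting map on the conjugate -/
noncomputable def tau : Gp L →* Gp L := (MulAut.conj Z.nn).toMonoidHom.comp sg

theorem tau_apply (g : Gp L) : Z.tau g = Z.nn * sg g * Z.nn⁻¹ := rfl

theorem tau_conj {y : Gp L} (hy : sg y = y) : Z.tau (Z.g0 * y * Z.g0⁻¹) = Z.g0 * y * Z.g0⁻¹ := by
  rw [tau_apply, map_mul, map_mul, map_inv, hy, ← Z.g0_sg]
  group

theorem tau_tt : Z.tau Z.tt = Z.tt := by rw [← Z.g0_xel]; exact Z.tau_conj Z.sg_xel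

theorem tt_eq : Z.tt = (R0 L).hr 56 Z.z * (R0 L).hr 36 (Z.z ^ 2) := by
  have e : fsl (ph slU slL Z.z) = ph slU slL (Z.z ^ 2) := by
    simp [ph, pn, fsl_U, fsl_L, CharTwo.neg_eq, inv_pow]
  rw [tt, dbl_apply, e]
  congr 1 <;> exact CG26.ChevInv.phi_ph MT uGoodE6 _ _

theorem tt_mem : Z.tt ∈ (R0 L).H :=
  Z.tt_eq ▸ mul_mem ((R0 L).hr_mem_H Z.z_ne) ((R0 L).hr_mem_H (pow_ne_zero _ Z.z_ne))

theorem zpow_mod (a : ℤ) : Z.z ^ (a % 5) = Z.z ^ a := by
  conv_rhs => rw [← Int.mul_ediv_add_emod a 5]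
  rw [zpow_add₀ Z.z_ne, zpow_mul, show Z.z ^ (5 : ℤ) = 1 from (zpow_natCast Z.z 5).trans Z.h5, one_zpow, one_mul]

theorem chi_tt (r : Ix) : chi MT Z.tt r = Z.z ^ eR r := by
  have hz2 : Z.z ^ 2 ≠ 0 := pow_ne_zero _ Z.z_ne
  rw [tt_eq, ChevTori.chi_mul MT uGoodE6 ((R0 L).hr_mem_H Z.z_ne) ((R0 L).hr_mem_H hz2),
    CG26.ChevInv.chi_hr MT uGoodE6 _ _ Z.z_ne, CG26.ChevInv.chi_hr MT uGoodE6 _ _ hz2, eR,
    ← zpow_natCast Z.z ((chevE6.pairing 56 r.val + 2 * chevE6.pairing 36 r.val) % 5).toNat,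
    show chevE6.pairing (56 : Ix).val r.val = chevE6.pairing 56 r.val from rfl,
    show chevE6.pairing (36 : Ix).val r.val = chevE6.pairing 36 r.val from rfl, Int.toNat_of_nonneg (Int.emod_nonneg _ (by norm_num)),
    show (Z.z ^ 2 : L) = Z.z ^ (2 : ℤ) from (zpow_natCast _ 2).symm, ← zpow_mul, ← zpow_add₀ Z.z_ne, Z.zpow_mod]

omit [Fintype L] [CharP L 2] in
theorem eR_lt (r : Ix) : eR r < 5 := by unfold eR; omega

theorem eR_eq {r s : Ix} (h : chi MT Z.tt r = chi MT Z.tt s) : eR r = eR s := by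
  rw [chi_tt, chi_tt] at h
  exact pow_injOn_Iio_orderOf (by rw [Z.order]; exact eR_lt r) (by rw [Z.order]; exact eR_lt s) h

theorem chi_tt_one {r : Ix} : chi MT Z.tt r = 1 ↔ eR r = 0 := by
  rw [chi_tt]
  refine ⟨fun h => pow_injOn_Iio_orderOf (by rw [Z.order]; exact eR_lt r)
    (by rw [Z.order]; exact Nat.succ_pos _) (h.trans (pow_zero _).symm), fun h => by rw [h, pow_zero]⟩

/-- the factor of the twisting map at a root -/
noncomputable def cst (r : Ix) : L := Z.w⁻¹ ^ chevE6.pairing 56 (gam r).val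

theorem sgn_one (i : Fin MT.tab.l) (r : Ix) : (R0 L).sgn i r = 1 := by
  rcases mul_self_eq_one_iff.1 ((R0 L).sgn_sq i r) with e | e
  · exact e
  · rw [e, CharTwo.neg_eq]

theorem nn_eq : Z.nn = (R0 L).hr 56 Z.w⁻¹ * (R0 L).n 0 := by
  have h := (CG26.ChevInv.pairRel MT uGoodE6 (F := L) (56 : Ix)).pn_eq Z.w⁻¹
  exact h

theorem tau_X (r : Ix) (a : L) : Z.tau (X r a) = X (gam r) (Z.cst r * a ^ 2) := by
  have hw := inv_ne_zero Z.w_ne
  rw [tau_apply, sg_X, Z.nn_eq,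
    show (R0 L).hr 56 Z.w⁻¹ * (R0 L).n 0 * X (fd.O.rho r) (a ^ 2) * ((R0 L).hr 56 Z.w⁻¹ * (R0 L).n 0)⁻¹ =
      (R0 L).hr 56 Z.w⁻¹ * ((R0 L).n 0 * X (fd.O.rho r) (a ^ 2) * ((R0 L).n 0)⁻¹) *
        ((R0 L).hr 56 Z.w⁻¹)⁻¹ by group, (R0 L).n_conj', sgn_one, one_mul]
  rw [cst, show (chevE6.pairing 56 (gam r).val) = chevE6.pairing (56 : Ix).val (gam r).val from rfl,
    ← CG26.ChevInv.chi_hr MT uGoodE6 (56 : Ix) (gam r) hw]
  exact ChevTori.conj_x MT uGoodE6 ((R0 L).hr_mem_H hw) _ _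

theorem tau_H {h : Gp L} (hh : h ∈ (R0 L).H) : Z.tau h ∈ (R0 L).H := by
  rw [tau_apply, Z.nn_eq, show (R0 L).hr 56 Z.w⁻¹ * (R0 L).n 0 * sg h *
      ((R0 L).hr 56 Z.w⁻¹ * (R0 L).n 0)⁻¹ = (R0 L).hr 56 Z.w⁻¹ *
      ((R0 L).n 0 * sg h * ((R0 L).n 0)⁻¹) * ((R0 L).hr 56 Z.w⁻¹)⁻¹ by group]
  exact mul_mem (mul_mem ((R0 L).hr_mem_H (inv_ne_zero Z.w_ne))
    ((R0 L).n_conj_mem_H 0 ((frame2 (F := L)).σ_mem_H hh)))
    (inv_mem ((R0 L).hr_mem_H (inv_ne_zero Z.w_ne)))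

theorem cst_ne (r : Ix) : Z.cst r ≠ 0 := zpow_ne_zero _ (inv_ne_zero Z.w_ne)

theorem chi_tau {h : Gp L} (hh : h ∈ (R0 L).H) (r : Ix) :
    chi MT (Z.tau h) (gam r) = chi MT h r ^ 2 := by
  have h1 := congrArg Z.tau (ChevTori.conj_x MT uGoodE6 hh r 1)
  rw [map_mul, map_mul, map_inv, show (ChevTori.rr MT uGoodE6).x r (1 : L) = X r 1 from rfl,
    show (ChevTori.rr MT uGoodE6).x r (chi MT h r * 1) = X r (chi MT h r * 1) from rfl,
    tau_X, tau_X] at h1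
  have h2 := (ChevTori.conj_x MT uGoodE6 (Z.tau_H hh) (gam r) (Z.cst r * 1 ^ 2)).symm.trans h1
  have h3 := ChevTori.x_inj MT uGoodE6 (gam r) h2
  simp only [one_pow, mul_one] at h3
  exact mul_right_cancel₀ (Z.cst_ne r) (h3.trans (mul_comm _ _))

theorem tau_simple_row : ∀ j : Fin 6, (List.finRange 6).map
    (fun k : Fin 6 => fd.O.vec (gam ((MT.S).simple j)) k) =
    [[0, 0, 0, 0, 0, 1], [0, 1, 0, 0, 0, 0], [0, 0, 0, 0, 1, 0], [0, 0, 0, 1, 0, 0], [1, 0, 1, 0, 0, 0],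
      [-1, 0, 0, 0, 0, 0]].getD j.val [] := by decide +kernel

/-- the fixed diagonal elements -/
def Ht : Set (Gp L) := {h | h ∈ (R0 L).H ∧ Z.tau h = h}

theorem Ht_card : Nat.card Z.Ht ≤ 5 := by
  classical
  let p : Z.Ht → Fin 6 → Lˣ := fun h => ChevTori.psi MT uGoodE6 ⟨h.1, h.2.1⟩
  have key : ∀ h j, (∏ k : Fin 6, p h k ^ fd.O.vec (gam ((MT.S).simple j)) k) = p h j ^ 2 := by
    intro h j
    refine Units.ext ?_
    have h1 := Z.chi_tau h.2.1 ((MT.S).simple j)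
    rw [h.2.2, ChevTori.chi_cf MT uGoodE6 ⟨h.1, h.2.1⟩] at h1
    simp only [cf_vec] at h1
    exact h1
  have rel : ∀ h, p h 5 = p h 0 ^ 2 ∧ p h 1 = p h 1 ^ 2 ∧ p h 4 = p h 2 ^ 2 ∧ p h 3 = p h 3 ^ 2 ∧
      p h 0 * p h 2 = p h 4 ^ 2 ∧ (p h 0)⁻¹ = p h 5 ^ 2 := by
    intro h
    have e : ∀ j : Fin 6, (((List.finRange 6).map fun k : Fin 6 =>
        fd.O.vec (gam ((MT.S).simple j)) k).zipWith (fun z k => p h k ^ z) (List.finRange 6)).prod =
        p h j ^ 2 := by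
      intro j
      rw [← key h j, Fin.prod_univ_six]
      simp [List.finRange_succ, mul_assoc]
    have e0 := e 0
    have e1 := e 1
    have e2 := e 2
    have e3 := e 3
    have e4 := e 4
    have e5 := e 5
    rw [tau_simple_row] at e0 e1 e2 e3 e4 e5
    simp [List.finRange_succ] at e0 e1 e2 e3 e4 e5
    refine ⟨?_, ?_, ?_, ?_, ?_, ?_⟩ <;> first
      | exact e0 | exact e1 | exact e2 | exact e3 | exact e4 | exact e5 | simpa using e1 | simpa using e3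
  have cube : ∀ h, ∃ z : Lˣ, p h 0 * p h 2 ^ 2 * p h 4 * p h 5 ^ 2 = z ^ 3 := by
    intro h
    obtain ⟨c, hc⟩ := ChevTori.exists_tau MT uGoodE6 h.2.1
    have hp : ∀ j : Fin 6, p h j = ∏ i : Fin 6, c i ^ chevE6.cartan i.val ((MT.S).simple j).val :=
      fun j => Units.ext (ChevTori.chi_tau MT hc ((MT.S).simple j))
    let ev : Fin 6 → ℤ := fun i => chevE6.cartan i.val ((MT.S).simple 0).val +
      2 * chevE6.cartan i.val ((MT.S).simple 2).val + chevE6.cartan i.val ((MT.S).simple 4).val +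
      2 * chevE6.cartan i.val ((MT.S).simple 5).val
    have hev : ∀ i : Fin 6, chevE6.cartan i.val ((MT.S).simple 0).val +
        chevE6.cartan i.val ((MT.S).simple 2).val * 2 + chevE6.cartan i.val ((MT.S).simple 4).val +
        chevE6.cartan i.val ((MT.S).simple 5).val * 2 = ev i / 3 * 3 := by decide +kernel
    refine ⟨∏ i, c i ^ (ev i / 3), ?_⟩
    simp only [hp, ← Finset.prod_pow, ← Finset.prod_mul_distrib]
    refine Finset.prod_congr rfl fun i _ => ?_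
    simp only [← zpow_natCast, ← zpow_mul, ← zpow_add]
    congr 1
    push_cast
    exact hev i
  have h15 : ∀ u : Lˣ, Fintype.card L = 16 → u ^ 15 = 1 := fun u hL => by
    have := pow_card_eq_one (x := u)
    rwa [Fintype.card_units, hL] at this
  have htwo : ∀ u : Lˣ, u = u ^ 2 → u = 1 := fun u hu => by
    rw [pow_two] at hu
    exact (mul_eq_left.1 hu.symm)
  have hfive : ∀ h, Fintype.card L = 16 → p h 2 ^ 5 = 1 := by
    intro h hL
    obtain ⟨z, hz⟩ := cube h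
    obtain ⟨r5, -, r4, -, r0, -⟩ := rel h
    generalize p h 2 = u at *
    generalize p h 4 = a at *
    subst r4
    generalize p h 0 = b at *
    have hb : b = u ^ 3 := by
      rw [← pow_mul, show 2 * 2 = 3 + 1 from rfl, pow_succ] at r0
      exact mul_right_cancel r0
    subst hb
    generalize p h 5 = d at *
    subst r5
    have hu : u ^ 19 = z ^ 3 := by rw [← hz]; group
    have hu4 : u ^ 4 = z ^ 3 := by
      rw [show u ^ 19 = u ^ 4 * u ^ 15 by rw [← pow_add], h15 u hL, mul_one] at hu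
      exact hu
    calc u ^ 5 = u ^ 5 * u ^ 15 := by rw [h15 u hL, mul_one]
      _ = (u ^ 4) ^ 5 := by rw [← pow_add, ← pow_mul]
      _ = (z ^ 3) ^ 5 := by rw [hu4]
      _ = 1 := by rw [← pow_mul, h15 z hL]
  have hL := Z.hL
  let f : Z.Ht → {u : Lˣ // u ^ 5 = 1} := fun h => ⟨p h 2, hfive h hL⟩
  have hf : Function.Injective f := by
    intro a b hab
    have h2 : p a 2 = p b 2 := congrArg Subtype.val hab
    suffices hh : p a = p b from Subtype.ext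
      (Subtype.mk.injEq .. ▸ ChevTori.psi_injective MT uGoodE6 hh)
    obtain ⟨a5', a1, a4, a3, a0, -⟩ := rel a
    obtain ⟨b5', b1, b4, b3, b0, -⟩ := rel b
    have h4 : p a 4 = p b 4 := by rw [a4, b4, h2]
    have h0 : p a 0 = p b 0 := by
      rw [h2, h4] at a0
      exact mul_right_cancel (a0.trans b0.symm)
    have h5 : p a 5 = p b 5 := by rw [a5', b5', h0]
    have h1 : p a 1 = p b 1 := by rw [htwo _ a1, htwo _ b1]
    have h3 : p a 3 = p b 3 := by rw [htwo _ a3, htwo _ b3]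
    funext j
    show p a j = p b j
    match (j : Fin 6) with
    | 0 => exact h0
    | 1 => exact h1
    | 2 => exact h2
    | 3 => exact h3
    | 4 => exact h4
    | 5 => exact h5
  refine (Nat.card_le_card_of_injective f hf).trans ?_
  rw [Nat.card_eq_fintype_card, Fintype.card_subtype]
  exact IsCyclic.card_pow_eq_one_le (by norm_num)

end Zeta

end Cfsg.Agent.E6Five
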