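import Cfsg.Agent.E6Five.Base
import Cfsg.Agent.CG26.ChevInv.Reduce

/-!
The Weyl group elements fixing the character of the element of order five, as lists of images of the fundamental
roots.
-/

set_option autoImplicit false
set_option maxRecDepth 8000

namespace Cfsg.Agent.E6Five

open Cfsg.Lie Cfsg.Agent.ChevCore Cfsg.Agent.ChevGroup Cfsg.Agent.Twisted Cfsg.Agent.Twisted.TypeE6
open Cfsg.Agent.E6Sub (Ix Gp R0 X)
open Cfsg.Agent.ChevTori (cf)

/-- the exponent of the character -/
def eR (r : Ix) : ℕ := ((chevE6.pairing 56 r.val + 2 * chevE6.pairing 36 r.val) % 5).toNat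

/-- the action on the roots of the twisting map on the centraliser -/
def gam (r : Ix) : Ix := (MT.S).refl 0 (fd.O.rho r)

/-- its inverse -/
def gamI (r : Ix) : Ix := fd.O.rho ((MT.S).refl 0 r)

/-- the positive roots with trivial character -/
def six : List Ix := [39, 46, 47, 69, 70, 71]

/-- the negative roots with trivial character -/
def sixN : List Ix := [0, 1, 2, 24, 25, 32]

/-- weights with all values on the fundamental coroots divisible by three -/
def vv : Fin MT.tab.l → ℤ := fun j => [4, 3, 5, 6, 4, 2].getD j.val 0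

/-- the images of the fundamental roots by a word -/
def tup (w : List (Fin MT.tab.l)) : List Ix :=
  (List.finRange MT.tab.l).map fun j => (MT.S).actw w ((MT.S).simple j)

/-- extend the partial lists by one root -/
def extend (l : List (List Ix)) : List (List Ix) :=
  l.flatMap fun c =>
    (List.finRange MT.tab.n).filterMap fun s =>
      if eR s = eR ((MT.S).simple ⟨c.length % 6, Nat.mod_lt _ (by norm_num)⟩) ∧
          (List.range c.length).all (fun i => decide
            (chevE6.pairing (c.getD i 0).val s.val = chevE6.pairing (chevE6.simple i) (chevE6.simple c.length))) then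
        some (c ++ [s]) else none

/-- the invariant modulo three -/
def mod3B (c : List Ix) : Bool :=
  (List.finRange MT.tab.l).all fun k =>
    decide ((∑ j : Fin MT.tab.l, vv j * fd.O.vec (c.getD j.val 0) k) % 3 = vv k % 3)

/-- the possible lists of images -/
def tups : List (List Ix) := ((extend^[6]) [[]]).filter mod3B

/-- the vector of the image of a root -/
def imgV (c : List Ix) (r : Ix) (k : Fin MT.tab.l) : ℤ :=
  ∑ j : Fin MT.tab.l, fd.O.vec r j * fd.O.vec (c.getD j.val 0) k

/-- the image of a root -/
def img (c : List Ix) (r : Ix) : Ix :=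
  ((List.finRange MT.tab.n).find? fun s =>
    (List.finRange MT.tab.l).all fun k => decide (fd.O.vec s k = imgV c r k)).getD 0

/-- the roots that stay positive -/
def stay (c : List Ix) : List Ix := six.filter fun r => decide (r ∈ six.map (img c))

theorem cf_vec : ∀ (r : Ix) (j : Fin MT.tab.l), cf MT r j = fd.O.vec r j := by
  unfold Cfsg.Agent.ChevTori.cf
  decide +kernel

theorem vec_inj : ∀ r s : Ix, (∀ k, fd.O.vec r k = fd.O.vec s k) → r = s := by decide +kernel

theorem vec_actw (w : List (Fin MT.tab.l)) (r : Ix) (k : Fin MT.tab.l) :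
    fd.O.vec ((MT.S).actw w r) k = imgV (tup w) r k := by
  rw [← cf_vec, CG26.ChevInv.cf_actw MT uGoodE6 w r k]
  refine Finset.sum_congr rfl fun j _ => ?_
  rw [cf_vec, cf_vec]
  congr 2
  simp [tup, List.getD_eq_getElem?_getD]

theorem img_actw (w : List (Fin MT.tab.l)) (r : Ix) : img (tup w) r = (MT.S).actw w r := by
  rw [img]
  cases h : (List.finRange MT.tab.n).find? fun s =>
      (List.finRange MT.tab.l).all fun k => decide (fd.O.vec s k = imgV (tup w) r k) with
  | none =>
    have := List.find?_eq_none.1 h ((MT.S).actw w r) (List.mem_finRange _)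
    simp [vec_actw] at this
  | some s =>
    have := List.find?_some h
    simp only [List.all_eq_true, decide_eq_true_eq] at this
    exact vec_inj _ _ fun k => (this k (List.mem_finRange k)).trans (vec_actw w r k).symm

theorem actw_pairing (w : List (Fin MT.tab.l)) (r s : Ix) :
    chevE6.pairing ((MT.S).actw w r).val ((MT.S).actw w s).val = chevE6.pairing r.val s.val := by
  induction w with
  | nil => rfl
  | cons i w ih =>
    rw [(MT.S).actw_cons, (MT.S).actw_cons, MT.refl_eq, MT.refl_eq,
      uGoodE6.toCommGood.toGood.pairing_refl (MT.lt_l i) (MT.lt _) (MT.lt _), ih]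

theorem vv_cartan : ∀ i : Fin MT.tab.l,
    (∑ j : Fin MT.tab.l, vv j * chevE6.cartan i.val ((MT.S).simple j).val) % 3 = 0 := by decide +kernel

theorem actw_vv_dvd (w : List (Fin MT.tab.l)) (k : Fin MT.tab.l) :
    (3 : ℤ) ∣ (∑ j, vv j * cf MT ((MT.S).actw w ((MT.S).simple j)) k) - vv k := by
  induction w generalizing k with
  | nil =>
    have h : ∀ j, vv j * cf MT ((MT.S).simple j) k = if k = j then vv j else 0 := fun j => by
      rw [ChevTori.cf_simple uGoodE6.toCommGood.toGood]
      split <;> simp
    simp only [(MT.S).actw_nil, h, Finset.sum_ite_eq, Finset.mem_univ, if_true, sub_self, dvd_zero]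
  | cons i w ih =>
    simp only [(MT.S).actw_cons, ChevTori.cf_refl uGoodE6.toCommGood.toGood, mul_sub,
      Finset.sum_sub_distrib]
    by_cases hk : k = i
    swap
    · simp only [if_neg hk, mul_zero, Finset.sum_const_zero, sub_zero]
      exact ih k
    subst hk
    simp only [if_true]
    rw [sub_right_comm]
    refine dvd_sub (ih k) ?_
    have h : ∀ j, vv j * chevE6.cartan k.val ((MT.S).actw w ((MT.S).simple j)).val =
        ∑ m, vv j * cf MT ((MT.S).actw w ((MT.S).simple j)) m *
          chevE6.cartan k.val ((MT.S).simple m).val := fun j => by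
      rw [ChevTori.cartan_cf (T := MT) uGoodE6.toCommGood.toGood, Finset.mul_sum]
      exact Finset.sum_congr rfl fun m _ => (mul_assoc _ _ _).symm
    rw [Finset.sum_congr rfl fun j _ => h j, Finset.sum_comm]
    have hd : ∀ m, (3 : ℤ) ∣ ((∑ j, vv j * cf MT ((MT.S).actw w ((MT.S).simple j)) m) - vv m) *
        chevE6.cartan k.val ((MT.S).simple m).val := fun m => dvd_mul_of_dvd_left (ih m) _
    have h2 := dvd_add (Finset.dvd_sum fun m (_ : m ∈ Finset.univ) => hd m)
      (Int.dvd_of_emod_eq_zero (vv_cartan k))
    rw [← Finset.sum_add_distrib] at h2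
    convert h2 using 1
    refine Finset.sum_congr rfl fun m _ => ?_
    rw [← Finset.sum_mul]
    ring

theorem actw_vv (w : List (Fin MT.tab.l)) (k : Fin MT.tab.l) :
    (∑ j, vv j * cf MT ((MT.S).actw w ((MT.S).simple j)) k) % 3 = vv k % 3 :=
  Int.emod_eq_emod_iff_emod_sub_eq_zero.2 (Int.emod_eq_zero_of_dvd (actw_vv_dvd w k))

theorem simple_val : ∀ j : Fin MT.tab.l, ((MT.S).simple j).val = chevE6.simple j.val := MT.simple_eq

theorem mem_extend {l : List (List Ix)} {w : List (Fin MT.tab.l)} {n : ℕ} (hn : n < 6)
    (he : ∀ r, eR ((MT.S).actw w r) = eR r) (h : (tup w).take n ∈ l) :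
    (tup w).take (n + 1) ∈ extend l := by
  have hlen : (tup w).length = 6 := by simp [tup]; rfl
  refine List.mem_flatMap.2 ⟨_, h, List.mem_filterMap.2
    ⟨(MT.S).actw w ((MT.S).simple ⟨n, hn⟩), List.mem_finRange _, ?_⟩⟩
  have hl : ((tup w).take n).length = n := by rw [List.length_take, hlen]; omega
  rw [if_pos]
  · refine congrArg some ?_
    rw [List.take_succ_eq_append_getElem (by omega)]
    congr 1
    simp [tup]
  refine ⟨?_, ?_⟩
  · rw [he]
    congr 2
    exact Fin.ext (by simp [hl, Nat.mod_eq_of_lt hn])
  · simp only [hl, List.all_eq_true, List.mem_range, decide_eq_true_eq]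
    intro i hi
    have hg : ((tup w).take n).getD i 0 = (MT.S).actw w ((MT.S).simple ⟨i, hi.trans hn⟩) := by
      rw [List.getD_eq_getElem _ _ (by omega), List.getElem_take]
      simp [tup]
    rw [hg, actw_pairing, simple_val, simple_val]

theorem tup_mem {w : List (Fin MT.tab.l)} (he : ∀ r, eR ((MT.S).actw w r) = eR r) : tup w ∈ tups := by
  refine List.mem_filter.2 ⟨?_, ?_⟩
  · have key : ∀ n ≤ 6, (tup w).take n ∈ (extend^[n]) [[]] := by
      intro n
      induction n with
      | zero => intro _; simp
      | succ n ih =>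
        intro hn
        rw [Function.iterate_succ_apply']
        exact mem_extend (by omega) he (ih (by omega))
    have := key 6 le_rfl
    rwa [List.take_of_length_le (by simp [tup]; rfl)] at this
  · simp only [mod3B, List.all_eq_true, decide_eq_true_eq]
    intro k _
    rw [← actw_vv w k]
    congr 1
    refine Finset.sum_congr rfl fun j _ => ?_
    rw [cf_vec]
    congr 2
    simp [tup, List.getD_eq_getElem?_getD]

theorem tups_facts : (tups.all fun c =>
    (List.finRange MT.tab.l).all (fun j =>
      decide (gam (img c (gamI ((MT.S).simple j))) = c.getD j.val 0))) = true ∧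
    (tups.map fun c => 2 ^ (6 - (stay c).length)).sum = 315 := by
  decide +kernel

end Cfsg.Agent.E6Five
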